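import Mathlib
import Cfsg.Agent.SporadicRecognition.AltCover
import Cfsg.Agent.Characters.Core
set_option linter.all false

-- part: H107/SpinGamma
section
/-!
# The basic spin representation, part 1: matrices (task 594, S4941)

* `exists_gamma` : anticommuting complex matrices `γ_0, …, γ_{2k}` of size `2^k` with square `-1`; only scalars commute with
  `γ_0, …, γ_{2k-1}`;
* `exists_Y` : matrices `Y_0, …, Y_{m-1}` of size `2^(m/2)` with `Y_i^3 = 1`, `(Y_i Y_j)^2 = -1` (`i ≠ j`); only scalars commute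
  with all of them.
-/

set_option autoImplicit false

namespace Cfsg.Agent.H107.Spin

open Matrix

theorem exists_gamma (k : ℕ) : ∃ (ι : Type) (_ : Fintype ι) (_ : DecidableEq ι) (γ : ℕ → Matrix ι ι ℂ),
    Fintype.card ι = 2 ^ k ∧ (∀ i < 2 * k + 1, γ i * γ i = -1) ∧
    (∀ i < 2 * k + 1, ∀ j < 2 * k + 1, i ≠ j → γ i * γ j = -(γ j * γ i)) ∧
    ∀ A : Matrix ι ι ℂ, (∀ i < 2 * k, A * γ i = γ i * A) → ∃ c : ℂ, A = c • (1 : Matrix ι ι ℂ) := by
  induction k with
  | zero =>
    refine ⟨Unit, inferInstance, inferInstance, fun _ => Complex.I • 1, by simp, ?_, ?_, ?_⟩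
    · intro i _
      rw [smul_mul_smul_comm, Complex.I_mul_I, mul_one, neg_smul, one_smul]
    · intro i hi j hj hij
      omega
    · intro A _
      refine ⟨A () (), ?_⟩
      ext i j
      simp
  | succ k ih =>
    obtain ⟨ι, i1, i2, γ, hc, hsq, hac, hA⟩ := ih
    obtain ⟨δ, hδ⟩ : ∃ δ : ℕ → Matrix (ι ⊕ ι) (ι ⊕ ι) ℂ, δ = fun i =>
      if i < 2 * k + 1 then fromBlocks (γ i) 0 0 (-(γ i)) else
      if i = 2 * k + 1 then fromBlocks 0 1 (-1) 0 else fromBlocks 0 (Complex.I • 1) (Complex.I • 1) 0 := ⟨_, rfl⟩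
    have d1 : ∀ i, i < 2 * k + 1 → δ i = fromBlocks (γ i) 0 0 (-(γ i)) := fun i hi => by
      rw [hδ]; exact if_pos hi
    have d2 : δ (2 * k + 1) = fromBlocks 0 1 (-1) 0 := by
      rw [hδ]
      dsimp only
      rw [if_neg (by omega), if_pos rfl]
    have d3 : δ (2 * k + 2) = fromBlocks 0 (Complex.I • 1) (Complex.I • 1) 0 := by
      rw [hδ]
      dsimp only
      rw [if_neg (by omega), if_neg (by omega)]
    have hI : (Complex.I • (1 : Matrix ι ι ℂ)) * (Complex.I • 1) = -1 := by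
      rw [smul_mul_smul_comm, Complex.I_mul_I, mul_one, neg_smul, one_smul]
    have hneg : (fromBlocks (-1) 0 0 (-1) : Matrix (ι ⊕ ι) (ι ⊕ ι) ℂ) = -1 := by
      rw [← fromBlocks_one, fromBlocks_neg]
      simp
    refine ⟨ι ⊕ ι, inferInstance, inferInstance, δ, ?_, ?_, ?_, ?_⟩
    · rw [Fintype.card_sum, hc]; ring
    · intro i hi
      rcases lt_or_ge i (2 * k + 1) with h | h
      · rw [d1 i h, fromBlocks_multiply, ← hneg]
        simp [hsq i h]
      · rcases eq_or_lt_of_le h with h | h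
        · rw [← h, d2, fromBlocks_multiply, ← hneg]
          simp
        · obtain rfl : i = 2 * k + 2 := by omega
          rw [d3, fromBlocks_multiply, ← hneg, hI]
          simp
    · -- anticommutation
      have key : ∀ i < 2 * (k + 1) + 1, ∀ j < 2 * (k + 1) + 1, i < j → δ i * δ j = -(δ j * δ i) := by
        intro i hi j hj hij
        rcases lt_or_ge j (2 * k + 1) with h | h
        · rw [d1 i (by omega), d1 j h, fromBlocks_multiply, fromBlocks_multiply, fromBlocks_neg]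
          simp [hac i (by omega) j h (by omega)]
        · rcases eq_or_lt_of_le h with h | h
          · rw [← h, d1 i (by omega), d2, fromBlocks_multiply, fromBlocks_multiply, fromBlocks_neg]
            simp
          · obtain rfl : j = 2 * k + 2 := by omega
            rcases lt_or_ge i (2 * k + 1) with h' | h'
            · rw [d1 i h', d3, fromBlocks_multiply, fromBlocks_multiply, fromBlocks_neg]
              simp
            · obtain rfl : i = 2 * k + 1 := by omega
              rw [d2, d3, fromBlocks_multiply, fromBlocks_multiply, fromBlocks_neg]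
              simp
      intro i hi j hj hij
      rcases lt_or_gt_of_ne hij with h | h
      · exact key i hi j hj h
      · rw [key j hj i hi h, neg_neg]
    · intro A hA'
      obtain ⟨a, b, c, d, rfl⟩ : ∃ a b c d, A = fromBlocks a b c d := ⟨_, _, _, _, (fromBlocks_toBlocks A).symm⟩
      have h1 := hA' (2 * k + 1) (by omega)
      rw [d2, fromBlocks_multiply, fromBlocks_multiply, fromBlocks_inj] at h1
      obtain ⟨h11, h12, h13, h14⟩ := h1
      simp only [mul_zero, zero_mul, mul_one, one_mul, mul_neg, neg_mul, add_zero, zero_add] at h11 h12 h13 h14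
      have h2 : ∀ i < 2 * k + 1, a * γ i = γ i * a ∧ b * γ i = -(γ i * b) := by
        intro i hi
        have h1 := hA' i (by omega)
        rw [d1 i hi, fromBlocks_multiply, fromBlocks_multiply, fromBlocks_inj] at h1
        obtain ⟨e1, e2, -, -⟩ := h1
        simp only [mul_zero, zero_mul, mul_neg, add_zero, zero_add] at e1 e2
        exact ⟨e1, by rw [← e2, neg_neg]⟩
      obtain ⟨x, hx⟩ := hA a fun i hi => (h2 i (by omega)).1
      have hb0 : b = 0 := by
        obtain ⟨y, hy⟩ := hA (b * γ (2 * k)) fun i hi => by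
          have e1 := (h2 i (by omega)).2
          rw [mul_assoc, hac (2 * k) (by omega) i (by omega) (by omega), mul_neg, ← mul_assoc, e1, neg_mul, neg_neg,
            mul_assoc]
        have hb : b = -(y • γ (2 * k)) := by
          have e1 : b * γ (2 * k) * γ (2 * k) = y • γ (2 * k) := by rw [hy, smul_mul_assoc, one_mul]
          rw [mul_assoc, hsq (2 * k) (by omega), mul_neg, mul_one] at e1
          rw [← e1, neg_neg]
        have e2 := (h2 (2 * k) (by omega)).2
        rw [hb, neg_mul, smul_mul_assoc, mul_neg, mul_smul_comm, hsq (2 * k) (by omega), smul_neg, neg_neg] at e2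
        have hne : Nonempty ι := by
          rw [← Fintype.card_pos_iff, hc]
          positivity
        obtain ⟨t⟩ := hne
        have e3 := congrFun (congrFun e2 t) t
        simp only [Matrix.smul_apply, Matrix.neg_apply, one_apply_eq, smul_eq_mul, mul_one] at e3
        have hy0 : y = 0 := by linear_combination e3 / 2
        rw [hb, hy0, zero_smul, neg_zero]
      refine ⟨x, ?_⟩
      have e3 : c = 0 := by rw [← h11, hb0, neg_zero]
      have e4 : d = x • 1 := by rw [← h12, hx]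
      rw [hx, hb0, e3, e4, ← fromBlocks_one, fromBlocks_smul, smul_zero]

section Alg

variable {A : Type*} [Ring A] [Algebra ℂ A]

/-- `Y = -1/2 + t J`, `J^2 = -1`, `t^2 = 3/4` -/
theorem cube_eq {t : ℂ} (ht : t * t = 3 / 4) {a Y Y' : A} (ha : a * a = -1) (hY : Y = -(1 / 2 : ℂ) • 1 + t • a)
    (hY' : Y' = -(1 / 2 : ℂ) • 1 - t • a) : Y * Y = Y' ∧ Y * Y' = 1 ∧ Y' * Y = 1 := by
  subst hY hY'
  have e1 : (t • a) * (t • a) = -(3 / 4 : ℂ) • (1 : A) := by
    rw [smul_mul_smul_comm, ht, ha, smul_neg, neg_smul]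
  have e2 : (-(1 / 2 : ℂ) • (1 : A)) * (-(1 / 2 : ℂ) • 1) = (1 / 4 : ℂ) • (1 : A) := by
    rw [smul_mul_smul_comm, mul_one]; norm_num
  refine ⟨?_, ?_, ?_⟩
  · rw [add_mul, mul_add, mul_add, e1, e2, smul_mul_assoc, one_mul, mul_smul_comm, mul_one]
    module
  · rw [add_mul, mul_sub, mul_sub, e1, e2, smul_mul_assoc, one_mul, mul_smul_comm, mul_one]
    module
  · rw [sub_mul, mul_add, mul_add, e1, e2, smul_mul_assoc, one_mul, mul_smul_comm, mul_one]
    module

theorem prod_eq {t : ℂ} (ht : t * t = 3 / 4) {a b Y Y' Z Z' : A} (ha : a * a = -1) (hb : b * b = -1)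
    (hab : a * b + b * a = -(2 / 3 : ℂ) • 1)
    (hY : Y = -(1 / 2 : ℂ) • 1 + t • a) (hY' : Y' = -(1 / 2 : ℂ) • 1 - t • a)
    (hZ : Z = -(1 / 2 : ℂ) • 1 + t • b) (hZ' : Z' = -(1 / 2 : ℂ) • 1 - t • b) :
    Y * Z * (Y * Z) = -1 := by
  obtain ⟨-, h1, h2⟩ := cube_eq ht ha hY hY'
  obtain ⟨-, h3, h4⟩ := cube_eq ht hb hZ hZ'
  have e1 : Z' * Y' = -(Y * Z) := by
    rw [hY, hY', hZ, hZ']
    have e3 : b * a = -(2 / 3 : ℂ) • 1 - a * b := by rw [← hab]; abel
    simp only [sub_mul, mul_sub, add_mul, mul_add, smul_mul_assoc, one_mul, mul_smul_comm, mul_one, e3]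
    match_scalars
    · linear_combination (-2 / 3) * ht
    all_goals ring
  have e2 : Y * Z * (Z' * Y') = 1 := by
    rw [mul_assoc Y Z, ← mul_assoc Z Z', h3, one_mul, h1]
  rw [e1, mul_neg] at e2
  exact neg_eq_iff_eq_neg.1 e2

/-- the elements `J_i = α γ_i + β s`, `s = Σ γ_i` -/
theorem J_rel {m : ℕ} {γ : ℕ → A} (hsq : ∀ i < m, γ i * γ i = -1)
    (hac : ∀ i < m, ∀ j < m, i ≠ j → γ i * γ j = -(γ j * γ i)) {α β : ℂ} (hα : α * α = 2 / 3)
    (hβ : 2 * α * β + m * β ^ 2 = 1 / 3) {s : A} (hs : s = ∑ i ∈ Finset.range m, γ i) :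
    (∀ i < m, (α • γ i + β • s) * (α • γ i + β • s) = -1) ∧
    ∀ i < m, ∀ j < m, i ≠ j → (α • γ i + β • s) * (α • γ j + β • s) + (α • γ j + β • s) * (α • γ i + β • s) =
      -(2 / 3 : ℂ) • 1 := by
  have h1 : ∀ i < m, γ i * s + s * γ i = -(2 : ℂ) • 1 := by
    intro i hi
    rw [hs, Finset.mul_sum, Finset.sum_mul, ← Finset.sum_add_distrib,
      Finset.sum_eq_single_of_mem i (Finset.mem_range.2 hi)]
    · rw [hsq i hi]
      module
    · intro j hj hji
      rw [hac i hi j (Finset.mem_range.1 hj) (Ne.symm hji), neg_add_cancel]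
  have h2 : s * s = -(m : ℂ) • 1 := by
    have e1 : ∑ i ∈ Finset.range m, (γ i * s + s * γ i) = ∑ i ∈ Finset.range m, (-(2 : ℂ) • (1 : A)) :=
      Finset.sum_congr rfl fun i hi => h1 i (Finset.mem_range.1 hi)
    rw [Finset.sum_add_distrib, ← Finset.sum_mul, ← Finset.mul_sum, ← hs, Finset.sum_const, Finset.card_range] at e1
    have e2 : (2 : ℂ) • (s * s) = (-(2 : ℂ) * m) • (1 : A) := by
      rw [two_smul, e1, ← Nat.cast_smul_eq_nsmul ℂ, smul_smul]
      congr 1
      ring
    have e3 := congrArg (fun x => (1 / 2 : ℂ) • x) e2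
    simp only [smul_smul] at e3
    rw [show (1 / 2 : ℂ) * 2 = 1 by norm_num, one_smul] at e3
    rw [e3]
    congr 1
    ring
  constructor
  · intro i hi
    have e1 : s * γ i = -(2 : ℂ) • 1 - γ i * s := by rw [← h1 i hi]; abel
    simp only [add_mul, mul_add, smul_mul_assoc, mul_smul_comm, hsq i hi, h2, e1]
    match_scalars
    · linear_combination -hα - hβ
    all_goals ring
  · intro i hi j hj hij
    have e1 : s * γ i = -(2 : ℂ) • 1 - γ i * s := by rw [← h1 i hi]; abel
    have e2 : s * γ j = -(2 : ℂ) • 1 - γ j * s := by rw [← h1 j hj]; abel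
    have e3 := hac i hi j hj hij
    simp only [add_mul, mul_add, smul_mul_assoc, mul_smul_comm, h2, e1, e2, e3]
    match_scalars
    · ring
    · linear_combination -2 * hβ
    all_goals ring

end Alg

/-- **The matrices `Y_i`.** -/
theorem exists_Y {m : ℕ} (hm : 1 ≤ m) : ∃ (ι : Type) (_ : Fintype ι) (_ : DecidableEq ι) (Y Y' : ℕ → Matrix ι ι ℂ),
    Fintype.card ι = 2 ^ (m / 2) ∧ (∀ i < m, Y i * Y i = Y' i ∧ Y i * Y' i = 1 ∧ Y' i * Y i = 1) ∧
    (∀ i < m, ∀ j < m, i ≠ j → Y i * Y j * (Y i * Y j) = -1) ∧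
    ∀ A : Matrix ι ι ℂ, (∀ i < m, A * Y i = Y i * A) → ∃ c : ℂ, A = c • (1 : Matrix ι ι ℂ) := by
  obtain ⟨ι, i1, i2, γ, hc, hsq, hac, hA⟩ := exists_gamma (m / 2)
  have hsq' : ∀ i < m, γ i * γ i = -1 := fun i hi => hsq i (by omega)
  have hac' : ∀ i < m, ∀ j < m, i ≠ j → γ i * γ j = -(γ j * γ i) := fun i hi j hj => hac i (by omega) j (by omega)
  obtain ⟨α, hα⟩ := IsAlgClosed.exists_pow_nat_eq (2 / 3 : ℂ) (n := 2) (by norm_num)
  obtain ⟨δ, hδ⟩ := IsAlgClosed.exists_pow_nat_eq (((m : ℂ) + 2) / 3) (n := 2) (by norm_num)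
  obtain ⟨t, ht⟩ := IsAlgClosed.exists_pow_nat_eq (3 / 4 : ℂ) (n := 2) (by norm_num)
  have hm0 : (m : ℂ) ≠ 0 := by exact_mod_cast (by omega : m ≠ 0)
  obtain ⟨β, hβ⟩ : ∃ β : ℂ, β = (δ - α) / m := ⟨_, rfl⟩
  have hα' : α * α = 2 / 3 := by rw [← pow_two]; exact hα
  have ht' : t * t = 3 / 4 := by rw [← pow_two]; exact ht
  have hα0 : α ≠ 0 := by
    rintro rfl
    norm_num at hα'
  have ht0 : t ≠ 0 := by
    rintro rfl
    norm_num at ht'
  have hδ0 : δ ≠ 0 := by
    rintro rfl
    rw [zero_pow (by norm_num)] at hδ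
    have h2 : ((m + 2 : ℕ) : ℂ) = 0 := by push_cast; linear_combination -3 * hδ
    exact absurd (Nat.cast_eq_zero.1 h2) (by omega)
  have hmβ : m * β = δ - α := by rw [hβ]; field_simp
  have hβ' : 2 * α * β + m * β ^ 2 = 1 / 3 := by
    have : m * (2 * α * β + m * β ^ 2) = m * (1 / 3) := by
      have e1 : m * (2 * α * β + m * β ^ 2) = m * β * (2 * α + m * β) := by ring
      rw [e1, hmβ]
      linear_combination hδ - hα
    exact mul_left_cancel₀ hm0 this
  obtain ⟨s, hs⟩ : ∃ s, s = ∑ i ∈ Finset.range m, γ i := ⟨_, rfl⟩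
  obtain ⟨hJ1, hJ2⟩ := J_rel hsq' hac' hα' hβ' hs
  obtain ⟨J, hJ⟩ : ∃ J : ℕ → Matrix ι ι ℂ, J = fun i => α • γ i + β • s := ⟨_, rfl⟩
  have hJi : ∀ i, J i = α • γ i + β • s := fun i => by rw [hJ]
  refine ⟨ι, i1, i2, fun i => -(1 / 2 : ℂ) • 1 + t • J i, fun i => -(1 / 2 : ℂ) • 1 - t • J i, hc, ?_, ?_, ?_⟩
  · intro i hi
    exact cube_eq ht' (a := J i) (by rw [hJi]; exact hJ1 i hi) rfl rfl
  · intro i hi j hj hij
    exact prod_eq ht' (a := J i) (b := J j) (by rw [hJi]; exact hJ1 i hi) (by rw [hJi]; exact hJ1 j hj)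
      (by rw [hJi, hJi]; exact hJ2 i hi j hj hij) rfl rfl rfl rfl
  · intro A hcomm
    have h1 : ∀ i < m, A * J i = J i * A := by
      intro i hi
      have h2 := hcomm i hi
      simp only [mul_add, add_mul, mul_smul_comm, smul_mul_assoc, mul_one, one_mul, add_right_inj] at h2
      have h3 := congrArg (fun x => t⁻¹ • x) h2
      simpa only [smul_smul, inv_mul_cancel₀ ht0, one_smul] using h3
    have h2 : A * s = s * A := by
      have e1 : ∑ i ∈ Finset.range m, J i = δ • s := by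
        simp only [hJi]
        rw [Finset.sum_add_distrib, ← Finset.smul_sum, ← hs, Finset.sum_const, Finset.card_range,
          ← Nat.cast_smul_eq_nsmul ℂ, smul_smul, ← add_smul, hmβ]
        congr 1
        ring
      have e2 : A * (δ • s) = (δ • s) * A := by
        rw [← e1, Finset.mul_sum, Finset.sum_mul]
        exact Finset.sum_congr rfl fun i hi => h1 i (Finset.mem_range.1 hi)
      rw [mul_smul_comm, smul_mul_assoc] at e2
      have h3 := congrArg (fun x => δ⁻¹ • x) e2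
      simpa only [smul_smul, inv_mul_cancel₀ hδ0, one_smul] using h3
    refine hA A fun i hi => ?_
    have h3 := h1 i (by omega)
    rw [hJi, mul_add, add_mul, mul_smul_comm, mul_smul_comm, smul_mul_assoc, smul_mul_assoc, h2,
      add_left_inj] at h3
    have h4 := congrArg (fun x => α⁻¹ • x) h3
    simpa only [smul_smul, inv_mul_cancel₀ hα0, one_smul] using h4

end Cfsg.Agent.H107.Spin
end

-- part: H107/SpinRep
section
/-!
# The basic spin representation, part 2 (task 594, S4941)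

* `exists_hom_cover` : homomorphisms from the double cover of `A_{m+2}`;
* `irr_of_scalar` : a complex representation of a finite group with scalar commutant is irreducible;
* `exists_basic_spin` : **the basic spin character of the double cover of `A_n`**.
-/

set_option autoImplicit false

universe u

namespace Cfsg.Agent.H107.Spin

open Subgroup
open Cfsg.Agent.Lib.AltCarmichael Cfsg.Agent.SporadicRecognition.AltCover Cfsg.Agent.Characters

/-- Homomorphisms from a non-split double cover of `A_{m+2}`. -/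
theorem exists_hom_cover {m : ℕ} (hm : 3 ≤ m) {C H : Type*} [Group C] [Group H]
    {π : C →* alternatingGroup (Fin (m + 2))} {z : C} (h : IsCover π z) {w : H} (hw2 : w * w = 1)
    (hwc : ∀ x, x * w = w * x) (Y : ℕ → H) (hY3 : ∀ i < m, Y i ^ 3 = 1)
    (hYY : ∀ i < m, ∀ j < m, i ≠ j → (Y i * Y j) ^ 2 = w) :
    ∃ f : C →* H, f z = w ∧ ∀ i < m, ∃ x : C, f x = Y i := by
  classical
  obtain ⟨N, hN⟩ : ∃ N : Subgroup (C × H), N = zpowers (z, w) := ⟨_, rfl⟩
  have hNz : (z, w) * (z, w) = (1 : C × H) := Prod.ext h.z_mul hw2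
  have hmemN : ∀ p : C × H, p ∈ N ↔ p = 1 ∨ p = (z, w) := by
    intro p
    rw [hN]
    constructor
    · intro hp
      obtain ⟨k, hk⟩ := mem_zpowers_iff.1 hp
      rcases Int.even_or_odd' k with ⟨l, hl | hl⟩
      · left
        rw [← hk, hl, zpow_mul, zpow_two, hNz, one_zpow]
      · right
        rw [← hk, hl, zpow_add, zpow_mul, zpow_two, hNz, one_zpow, one_mul, zpow_one]
    · rintro (rfl | rfl)
      · exact one_mem _
      · exact mem_zpowers _
  have hNn : N.Normal := by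
    refine ⟨fun p hp g => ?_⟩
    rcases (hmemN p).1 hp with rfl | rfl
    · rw [mul_one, mul_inv_cancel]; exact one_mem _
    · have : g * (z, w) * g⁻¹ = (z, w) := by
        refine Prod.ext ?_ ?_
        · change g.1 * z * g.1⁻¹ = z
          rw [h.z_comm, mul_inv_cancel_right]
        · change g.2 * w * g.2⁻¹ = w
          rw [hwc, mul_inv_cancel_right]
      rw [this, hmemN]
      exact Or.inr rfl
  choose X hX3 hXπ using fun (k : Fin m) => h.exists_cube (cy_cube k.2)
  let q : C × H →* (C × H) ⧸ N := QuotientGroup.mk' N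
  have hq : ∀ p, q p = 1 ↔ p = 1 ∨ p = (z, w) := by
    intro p
    rw [← hmemN]
    exact QuotientGroup.eq_one_iff p
  have hrel : Rel m (fun k => if hk : k < m then q (X ⟨k, hk⟩, Y k) else 1) := by
    constructor
    · intro k hk
      simp only [dif_pos hk]
      rw [← map_pow, hq]
      left
      exact Prod.ext (hX3 _) (hY3 k hk)
    · intro k hk l hl hkl
      simp only [dif_pos hk, dif_pos hl]
      rw [← map_mul, ← map_pow, hq]
      right
      exact Prod.ext (h.sq_eq hm hk hl hkl (hX3 _) (hXπ _) (hX3 _) (hXπ _)) (hYY k hk l hl hkl)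
  obtain ⟨s, hs⟩ := exists_hom (by omega) hrel
  have hs' : ∀ k (hk : k < m), s (cy m k hk) = q (X ⟨k, hk⟩, Y k) := by
    intro k hk
    have := hs k hk
    simp only [dif_pos hk] at this
    exact this
  have hN1 : N ≤ (π.comp (MonoidHom.fst C H)).ker := by
    intro p hp
    rw [MonoidHom.mem_ker]
    rcases (hmemN p).1 hp with rfl | rfl
    · exact map_one _
    · exact h.map_z
  have key1 : ∀ p g, q p = s g → π p.1 = g := by
    have hc : (QuotientGroup.lift N (π.comp (MonoidHom.fst C H)) hN1).comp s = MonoidHom.id _ := by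
      refine hom_ext (by omega) fun k hk => ?_
      rw [MonoidHom.comp_apply, hs']
      exact hXπ ⟨k, hk⟩
    intro p g hp
    have h1 := DFunLike.congr_fun hc g
    rw [MonoidHom.comp_apply, ← hp] at h1
    exact h1
  let Γ : Subgroup (C × H) := s.range.comap q
  have hΓz : (z, w) ∈ Γ := ⟨1, by rw [map_one]; exact ((hq _).2 (Or.inr rfl)).symm⟩
  let f₁ : Γ →* C := (MonoidHom.fst C H).comp Γ.subtype
  let f₂ : Γ →* H := (MonoidHom.snd C H).comp Γ.subtype
  have hf₁ : Function.Bijective f₁ := by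
    constructor
    · rw [injective_iff_map_eq_one]
      rintro ⟨⟨a, b⟩, g, hg⟩ hab
      have ha : a = 1 := hab
      subst ha
      have h1 := key1 (1, b) g hg.symm
      rw [map_one] at h1
      rw [← h1, map_one] at hg
      rcases (hq (1, b)).1 hg.symm with h2 | h2
      · exact Subtype.ext h2
      · exact absurd (congrArg Prod.fst h2).symm h.z_ne
    · intro x
      obtain ⟨p, hp⟩ := QuotientGroup.mk'_surjective N (s (π x))
      have hp1 := key1 p _ hp
      have hpΓ : p ∈ Γ := ⟨π x, hp.symm⟩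
      rcases h.eq_or_of_map_eq hp1.symm with h1 | h1
      · exact ⟨⟨p, hpΓ⟩, h1.symm⟩
      · exact ⟨⟨p * (z, w), mul_mem hpΓ hΓz⟩, h1.symm⟩
  let e₁ : Γ ≃* C := MulEquiv.ofBijective f₁ hf₁
  refine ⟨f₂.comp e₁.symm.toMonoidHom, ?_, ?_⟩
  · have h1 : e₁.symm z = ⟨(z, w), hΓz⟩ := by rw [MulEquiv.symm_apply_eq]; rfl
    rw [MonoidHom.comp_apply]
    change f₂ (e₁.symm z) = w
    rw [h1]
    rfl
  · intro i hi
    have hΓi : (X ⟨i, hi⟩, Y i) ∈ Γ := ⟨cy m i hi, hs' i hi⟩
    refine ⟨X ⟨i, hi⟩, ?_⟩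
    have h1 : e₁.symm (X ⟨i, hi⟩) = ⟨(X ⟨i, hi⟩, Y i), hΓi⟩ := by rw [MulEquiv.symm_apply_eq]; rfl
    rw [MonoidHom.comp_apply]
    change f₂ (e₁.symm _) = Y i
    rw [h1]
    rfl

/-- A representation with scalar commutant is irreducible. -/
theorem irr_of_scalar {G V : Type*} [Group G] [Finite G] [AddCommGroup V] [Module ℂ V] [Nontrivial V]
    (ρ : Representation ℂ G V)
    (h : ∀ f : V →ₗ[ℂ] V, (∀ g v, f (ρ g v) = ρ g (f v)) → ∃ c : ℂ, ∀ v, f v = c • v) : ρ.IsIrreducible := by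
  classical
  have := Fintype.ofFinite G
  have hnt : Nontrivial (Subrepresentation ρ) := by
    refine ⟨⊥, ⊤, fun h1 => ?_⟩
    have h2 : (⊥ : Submodule ℂ V) = ⊤ := congrArg Subrepresentation.toSubmodule h1
    exact bot_ne_top h2
  refine ⟨fun S => ?_⟩
  obtain ⟨U, hU⟩ : ∃ U, U = S.toSubmodule := ⟨_, rfl⟩
  have hinv : ∀ g, ∀ v ∈ U, ρ g v ∈ U := fun g v hv => by
    rw [hU] at hv ⊢
    exact S.apply_mem_toSubmodule g hv
  suffices hc : U = ⊥ ∨ U = ⊤ by
    rcases hc with h1 | h1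
    · exact Or.inl (Subrepresentation.toSubmodule_injective (by rw [← hU, h1]; rfl))
    · exact Or.inr (Subrepresentation.toSubmodule_injective (by rw [← hU, h1]; rfl))
  obtain ⟨W, hW⟩ := U.exists_isCompl
  obtain ⟨P, hP⟩ : ∃ P : V →ₗ[ℂ] V, P = U.subtype ∘ₗ U.projectionOnto W hW := ⟨_, rfl⟩
  have hP1 : ∀ v, P v ∈ U := fun v => by rw [hP]; exact (U.projectionOnto W hW v).2
  have hP2 : ∀ v ∈ U, P v = v := fun v hv => by
    rw [hP]
    exact congrArg Subtype.val (Submodule.projectionOnto_apply_left hW ⟨v, hv⟩)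
  obtain ⟨Q, hQ⟩ : ∃ Q : V →ₗ[ℂ] V, Q = ∑ g : G, (ρ g ∘ₗ P ∘ₗ ρ g⁻¹) := ⟨_, rfl⟩
  have hQv : ∀ v, Q v = ∑ g : G, ρ g (P (ρ g⁻¹ v)) := fun v => by
    rw [hQ, LinearMap.sum_apply]; rfl
  have hQc : ∀ g v, Q (ρ g v) = ρ g (Q v) := by
    intro g v
    rw [hQv, hQv, map_sum]
    refine (Fintype.sum_equiv (Equiv.mulLeft g) _ _ fun x => ?_).symm
    rw [Equiv.coe_mulLeft, map_mul, mul_inv_rev, map_mul]
    change ρ g (ρ x (P (ρ x⁻¹ v))) = ρ g (ρ x (P (ρ x⁻¹ (ρ g⁻¹ (ρ g v)))))
    rw [Representation.inv_self_apply]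
  obtain ⟨c, hc⟩ := h Q hQc
  have hQU : ∀ v, Q v ∈ U := fun v => by
    rw [hQv]
    exact Submodule.sum_mem _ fun g _ => hinv g _ (hP1 _)
  by_cases h0 : U = ⊥
  · exact Or.inl h0
  right
  obtain ⟨u, hu, hu0⟩ := Submodule.exists_mem_ne_zero_of_ne_bot h0
  have h1 : Q u = (Fintype.card G : ℂ) • u := by
    rw [hQv, Finset.sum_congr rfl fun g _ => by rw [hP2 _ (hinv _ u hu), Representation.self_inv_apply],
      Finset.sum_const, Finset.card_univ, ← Nat.cast_smul_eq_nsmul ℂ]
  have h2 : c = (Fintype.card G : ℂ) := by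
    rw [hc] at h1
    have h3 : (c - Fintype.card G) • u = 0 := by rw [sub_smul, h1, sub_self]
    rcases smul_eq_zero.1 h3 with h4 | h4
    · exact sub_eq_zero.1 h4
    · exact absurd h4 hu0
  have hc0 : c ≠ 0 := by
    rw [h2]
    exact_mod_cast Fintype.card_ne_zero
  rw [eq_top_iff]
  intro v _
  have h3 := hQU v
  rw [hc] at h3
  exact (Submodule.smul_mem_iff _ hc0).1 h3

open Cfsg in
/-- **The basic spin character of the double cover of `A_n`**, `n ≥ 5`: an irreducible character of degree `2^⌊(n-2)/2⌋` with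
`χ(z) = -χ(1)`. -/
theorem exists_basic_spin {n : ℕ} (hn : 5 ≤ n) {G : Type u} [Group G] [Finite G] {π : G →* alternatingGroup (Fin n)} {z : G}
    (h : Cfsg.Agent.SporadicRecognition.AltCover.IsCover π z) :
    ∃ χ : G → ℂ, IsIrrCharacter G χ ∧ χ z = - χ 1 ∧ χ 1 = ((2 ^ ((n - 2) / 2) : ℕ) : ℂ) := by
  obtain ⟨m, rfl⟩ : ∃ m, n = m + 2 := ⟨n - 2, by omega⟩
  obtain ⟨ι, i1, i2, Y, Y', hcard, h1, h2, h3⟩ := exists_Y (m := m) (by omega)
  -- the units
  obtain ⟨y, hy⟩ : ∃ y : ℕ → (Matrix ι ι ℂ)ˣ, ∀ i < m, (y i : Matrix ι ι ℂ) = Y i := by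
    classical
    exact ⟨fun i => if hi : i < m then ⟨Y i, Y' i, (h1 i hi).2.1, (h1 i hi).2.2⟩ else 1, fun i hi => by
      simp only [dif_pos hi]⟩
  obtain ⟨f, hfz, hf⟩ := exists_hom_cover (by omega) h (w := (-1 : (Matrix ι ι ℂ)ˣ)) (by rw [neg_mul_neg, one_mul])
    (fun x => by rw [mul_neg, neg_mul, mul_one, one_mul]) y
    (fun i hi => by
      apply Units.ext
      rw [Units.val_pow_eq_pow_val, hy i hi, pow_succ, pow_two, (h1 i hi).1, (h1 i hi).2.2, Units.val_one])
    (fun i hi j hj hij => by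
      apply Units.ext
      rw [Units.val_pow_eq_pow_val, Units.val_mul, hy i hi, hy j hj, pow_two, h2 i hi j hj hij, Units.val_neg,
        Units.val_one])
  have hne : Nonempty ι := by
    rw [← Fintype.card_pos_iff, hcard]
    positivity
  obtain ⟨ρ, hρ⟩ : ∃ ρ : Representation ℂ G (ι → ℂ), ∀ g v, ρ g v = (f g : Matrix ι ι ℂ).mulVec v := by
    refine ⟨{ toFun := fun g => Matrix.toLin' (f g : Matrix ι ι ℂ), map_one' := ?_, map_mul' := ?_ }, fun g v => ?_⟩
    · rw [map_one, Units.val_one, Matrix.toLin'_one]; rfl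
    · intro a b
      rw [map_mul, Units.val_mul, Matrix.toLin'_mul]; rfl
    · exact Matrix.toLin'_apply _ _
  have hρt : ∀ g, ρ.character g = Matrix.trace (f g : Matrix ι ι ℂ) := by
    intro g
    have e : ρ g = Matrix.toLin' (f g : Matrix ι ι ℂ) := LinearMap.ext fun v => by rw [hρ, Matrix.toLin'_apply]
    change LinearMap.trace ℂ _ (ρ g) = _
    rw [e, Matrix.trace_toLin'_eq]
  refine ⟨ρ.character, ?_, ?_, ?_⟩
  · apply Cfsg.Agent.Characters.Core.isIrrCharacter_of_rep
    apply irr_of_scalar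
    intro T hT
    obtain ⟨c, hc⟩ := h3 (LinearMap.toMatrix' T) fun i hi => by
      obtain ⟨x, hx⟩ := hf i hi
      have e1 : (f x : Matrix ι ι ℂ) = Y i := by rw [hx, hy i hi]
      have e2 : T ∘ₗ Matrix.toLin' (f x : Matrix ι ι ℂ) = Matrix.toLin' (f x : Matrix ι ι ℂ) ∘ₗ T := by
        apply LinearMap.ext
        intro v
        rw [LinearMap.comp_apply, LinearMap.comp_apply, Matrix.toLin'_apply, Matrix.toLin'_apply, ← hρ, ← hρ]
        exact hT x v
      have e3 := congrArg LinearMap.toMatrix' e2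
      rw [LinearMap.toMatrix'_comp, LinearMap.toMatrix'_comp, LinearMap.toMatrix'_toLin', e1] at e3
      exact e3
    refine ⟨c, fun v => ?_⟩
    have e4 : T = Matrix.toLin' (LinearMap.toMatrix' T) := (Matrix.toLin'_toMatrix' T).symm
    rw [e4, hc, Matrix.toLin'_apply, Matrix.smul_mulVec, Matrix.one_mulVec]
  · rw [hρt, hρt, hfz, map_one, Units.val_neg, Units.val_one, Matrix.trace_neg]
  · rw [hρt, map_one, Units.val_one, Matrix.trace_one, hcard]
    norm_num

end Cfsg.Agent.H107.Spin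
end
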