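import Cfsg.Agent.H369.PglSpec
import Cfsg.Agent.H378.RegE7
import Cfsg.Agent.H416.Arith
import Cfsg.Prelude.Def_KGroupFacts
import Cfsg.Agent.Prune
set_option linter.all false
prune_inst 0x7f00000000000000000000000000000000000000000000000000000000000000000000000000000000000000000000000000000000000000000000000000000000000000000000000000000000000000003fffffffffffffffffffffffffffbeffbdffffffff
open scoped Cfsg.Agent.FastGrp

/-!
# Exceptional rows for the recognition of `PGL_2(q)` by spectrum: tools (helper107, task PGL-E2 of S3447)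

* `not_near` : an isolated odd prime is not `Near`;
* `torus_dvd` : the value `P = Φ_e(u)` at an isolated prime divisor `p` of `P` divides `p * gcd(d, u - 1)`;
* `gen` : `p² - 1 ≤ 2 f Φ_m(u)` if the primes not adjacent to `3` have cyclic self-centralizing tori.
-/

set_option autoImplicit false
set_option linter.unusedSectionVars false

namespace Cfsg.Agent.H107.PglExc

open CoxeterSystem Subgroup Cfsg Cfsg.Lie Cfsg.Lie.ChevalleyDatum
open Cfsg.Agent.ChevalleyStructure.CoxeterGeomTypes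
open Cfsg.Agent.Nodes.RGDChev Cfsg.Agent.KFacts.RgdChevCoord Cfsg.Agent.BpExc.TorChev
open Cfsg.Agent.BpExc.RowsUntw Cfsg.Agent.BpExc.FamInst Cfsg.Agent.BpExc.FamExt
open Cfsg.Agent.H378.SmallTor Cfsg.Agent.H378.AdjTab Cfsg.Agent.H378.CycTab Cfsg.Agent.H378.ExcAdj
open Cfsg.Agent.H378.ExcNear Cfsg.Agent.H378.RegFin
open Cfsg.Agent.H493.PGTorus Cfsg.Agent.H129.WData
open Cfsg.Agent.H564.NearTwo (Near)
open Cfsg.Agent.H369.Pgl

universe u v

/-- an isolated odd prime is not `Near` -/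
theorem not_near {G : Type*} [Group G] {p : ℕ} (hp2 : p ≠ 2)
    (iso : ∀ g : G, p ∣ orderOf g → orderOf g = p) : ¬ Near G p := by
  have key : ∀ s, ¬ H94.PG.Adj G p s := by
    rintro s ⟨hp, hs, hne, x, y, hx, hy, hxy⟩
    have h1 : orderOf (x * y) = p * s := by
      rw [hxy.orderOf_mul_eq_mul_orderOf_of_coprime (by
        rw [hx, hy]; exact (Nat.coprime_primes hp hs).2 hne), hx, hy]
    have h2 := iso (x * y) (by rw [h1]; exact Dvd.intro _ rfl)
    rw [h1] at h2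
    have h3 := hs.two_le
    have h4 := hp.pos
    nlinarith
  rintro (h | h | ⟨s, h, -⟩)
  · exact hp2 h
  · exact key _ h
  · exact key _ h

theorem card_mulAut {S : Type*} [Group S] (hinj : Function.Injective (MulAut.conj : S →* MulAut S)) :
    Nat.card (MulAut S) = Nat.card S * Nat.card (Cfsg.Out S) := by
  have h1 := Subgroup.card_eq_card_quotient_mul_card_subgroup (Cfsg.Inn S)
  have h2 : Nat.card ↥(Cfsg.Inn S) = Nat.card S :=
    (Nat.card_congr (MonoidHom.ofInjective hinj).toEquiv).symm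
  rw [h1, h2, mul_comm]

section
variable {S : Type*} [Group S] [Finite S] [IsSimpleGroup S] (hna : ¬ IsMulCommutative S) {p m : ℕ}
    {X : Subgroup (MulAut S)} (H : Sit S p m X)
include hna H

/-- an element `g` of `S` and a divisor `c` of `f` with `orderOf g * c = nn` -/
theorem exists_inner {f : ℕ} (hout : Nat.card (Cfsg.Out S) ∣ 2 * f) {x : MulAut S}
    (hx : orderOf x = nn (p ^ m)) : ∃ g : S, ∃ c, c ∣ f ∧ orderOf g * c = nn (p ^ m) := by
  have hodd := nn_odd H.odd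
  have h0 : orderOf (x : Cfsg.Out S) ∣ f := by
    have h1 : orderOf (x : Cfsg.Out S) ∣ 2 * f := (_root_.orderOf_dvd_natCard _).trans hout
    have h2 : orderOf (x : Cfsg.Out S) ∣ nn (p ^ m) := by
      rw [← hx]
      exact orderOf_map_dvd (QuotientGroup.mk' (Cfsg.Inn S)) x
    have h3 : (orderOf (x : Cfsg.Out S)).Coprime 2 := by
      apply Nat.Coprime.coprime_dvd_left h2
      exact Nat.coprime_two_right.2 (Nat.odd_iff.2 hodd)
    exact h3.dvd_of_dvd_mul_left h1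
  obtain ⟨c, hc⟩ : ∃ c, c = orderOf (x : Cfsg.Out S) := ⟨_, rfl⟩
  have h1 : x ^ c ∈ Cfsg.Inn S := by
    rw [← QuotientGroup.eq_one_iff, QuotientGroup.mk_pow, hc]
    exact pow_orderOf_eq_one _
  obtain ⟨g, hg⟩ := h1
  have hc2 : c ∣ orderOf x := by
    rw [hc]
    exact orderOf_map_dvd (QuotientGroup.mk' (Cfsg.Inn S)) x
  have hc0 : c ≠ 0 := by
    rintro rfl
    rw [Nat.zero_dvd, hx] at hc2
    exact H.nn_pos.ne' hc2
  refine ⟨g, c, by rw [hc]; exact h0, ?_⟩
  have h2 : orderOf g = orderOf (x ^ c) := by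
    rw [← Sit.orderOf_conj hna g]
    exact congrArg orderOf hg
  rw [h2, orderOf_pow_of_dvd hc0 hc2, hx, Nat.div_mul_cancel (hx ▸ hc2)]

end

section
variable {D : ChevalleyDatum} {l : ℕ} {M : CoxeterMatrix (Fin l)} (hp : IsType D l M) {d : ℕ}
    {B : Fin l → Fin l → ℤ} (hB : InvC D l d B) (hd : d ≠ 0)
include hp hB hd

/-- **the torus through an isolated prime** -/
theorem torus_eq {A : Mat l} (hA : ∀ i j, A i j = cartanOf D l i j) {L : List (Fin l × Mat l)}
    (hL : ChainOK A L) {f : ℕ} {c : Fin (f + 1) → ℤ} {V : Fin (f + 1) → Fin l → ℤ} {U : Fin l → ℤ}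
    (h : EigOK (H129.WData.hd L) c V U) {F : Type u} [Field F] [Finite F] {p : ℕ} (hpp : p.Prime)
    (hP0 : 0 < pv c (Nat.card F : ℕ)) (hpP : (p : ℤ) ∣ pv c (Nat.card F : ℕ))
    (hpd : p.Coprime (Nat.gcd d (Nat.card F - 1)))
    (iso : ∀ g : ↥(D.group F), p ∣ orderOf g → orderOf g = p) :
    ∃ c' : ℕ, c' ∣ Nat.gcd d (Nat.card F - 1) ∧ pv c (Nat.card F : ℕ) = (p : ℤ) * c' := by
  let cs : CoxeterSystem M M.Group := M.toCoxeterSystem
  have := finite_W hp cs
  obtain ⟨P, hP⟩ : ∃ P : ℕ, (P : ℤ) = pv c (Nat.card F : ℕ) := ⟨_, Int.toNat_of_nonneg hP0.le⟩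
  have hP0' : 0 < P := by
    rw [← hP] at hP0
    exact_mod_cast hP0
  have hpP' : p ∣ P := by
    rw [← hP] at hpP
    exact_mod_cast hpP
  obtain ⟨x, y, -, hx, -⟩ := exists_comm_torus hp cs hB hd hA hL h h (F := F) hP0' hP0' (by rw [hP]) (by rw [hP])
  have h1 : p ∣ orderOf x := hpd.dvd_of_dvd_mul_right (hpP'.trans hx)
  rw [iso x h1] at hx
  obtain ⟨c', rfl⟩ := hpP'
  refine ⟨c', Nat.dvd_of_mul_dvd_mul_left hpp.pos hx, ?_⟩
  rw [← hP]
  push_cast
  ring

/-- **Bound from self-centralizing tori.** -/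
theorem gen {F : Type u} [Field F] [Finite F] [Finite ↥(D.group F)] [IsSimpleGroup ↥(D.group F)]
    (hna : ¬ IsMulCommutative ↥(D.group F)) {p m : ℕ} {X : Subgroup (MulAut ↥(D.group F))}
    (H : Sit ↥(D.group F) p m X) {L : List ℕ} (hL : ∀ e ∈ L, e.totient = l ∧ l < e)
    (adj3 : ∀ r : ℕ, r.Prime → r ∣ Nat.card ↥(D.group F) → r = 2 ∨ r = 3 ∨
      (∃ g : ↥(D.group F), r * 3 ∣ orderOf g ∨ r * 4 ∣ orderOf g) ∨ od (Nat.card F) r ∈ L)
    (h12 : ∃ g : ↥(D.group F), 12 ∣ orderOf g) (h3 : ∃ P : Sylow 3 ↥(D.group F), ¬ IsCyclic P)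
    {f : ℕ} (hf : 0 < f) (hout : Nat.card (Cfsg.Out ↥(D.group F)) ∣ 2 * f) :
    p ^ 2 - 1 ≤ 2 * f ∨ ∃ e ∈ L, p ^ 2 - 1 ≤
      2 * (((Polynomial.cyclotomic e ℤ).eval ((Nat.card F : ℕ) : ℤ)).natAbs * f) := by
  obtain ⟨x, hx, hxo, hle, hs⟩ := H.three hna h12 h3
  obtain ⟨g, c, hcf, hgc⟩ := exists_inner hna H hout hxo
  have hcl : c ≤ f := Nat.le_of_dvd hf hcf
  have hsq := H.sq_le
  by_cases hg1 : orderOf g = 1
  · left
    rw [hg1, one_mul] at hgc
    omega
  right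
  obtain ⟨s, hsp, hsg⟩ := Nat.exists_prime_and_dvd hg1
  obtain ⟨h1, h2, h4, h5⟩ := hs s hsp (hsg.trans (Dvd.intro _ hgc))
  rcases adj3 s hsp (hsg.trans (_root_.orderOf_dvd_natCard g)) with h | h | ⟨y, h | h⟩ | h
  · exact absurd h h1
  · exact absurd h h2
  · exact absurd h (h5 y).1
  · exact absurd h (h5 y).2
  refine ⟨od (Nat.card F) s, h, ?_⟩
  obtain ⟨ht, hlt⟩ := hL _ h
  obtain ⟨a, ha⟩ := hsg
  have ha0 : a ≠ 0 := by
    rintro rfl
    rw [mul_zero] at ha
    exact (orderOf_pos g).ne' ha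
  have hya : orderOf (g ^ a) = s := by
    rw [orderOf_pow_of_dvd ha0 (by rw [ha]; exact Dvd.intro_left _ rfl), ha,
      Nat.mul_div_cancel _ (Nat.pos_of_ne_zero ha0)]
  have hc := (cent_od hp hB hd hsp hya rfl ht hlt).2
  have hgm : g ∈ Subgroup.centralizer {g ^ a} :=
    Subgroup.mem_centralizer_singleton_iff.2 ((Commute.refl g).pow_right a)
  have h6 : orderOf g ∣ ((Polynomial.cyclotomic (od (Nat.card F) s) ℤ).eval ((Nat.card F : ℕ) : ℤ)).natAbs := by
    rw [← Subgroup.orderOf_mk g hgm]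
    exact (_root_.orderOf_dvd_natCard _).trans hc
  have h7 : 0 < ((Polynomial.cyclotomic (od (Nat.card F) s) ℤ).eval ((Nat.card F : ℕ) : ℤ)).natAbs :=
    H416.Arith.c_pos _ (Finite.one_lt_card (α := F))
  have h8 := Nat.le_of_dvd h7 h6
  have h9 : nn (p ^ m) ≤ ((Polynomial.cyclotomic (od (Nat.card F) s) ℤ).eval
      ((Nat.card F : ℕ) : ℤ)).natAbs * f := by
    rw [← hgc]
    exact Nat.mul_le_mul h8 hcl
  omega

end

end Cfsg.Agent.H107.PglExc
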