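import Mathlib
import Cfsg.Agent.LieClassical.SLGen
set_option linter.all false

-- part: H107/SLHas
section
/-!
Subgroups of `SL_n(F)` containing transvections `1 + a ⊗ φ`.
`Has H a φ` : the transvection `1 + a ⊗ φ` (with `φ(a) = 0`) lies in `H`.
-/

set_option autoImplicit false

namespace Cfsg.Agent.H107.SLHas

open Matrix

variable {n : ℕ} {F : Type*} [Field F]

/-- `H` contains the transvection `1 + a ⊗ φ`. -/
def Has (H : Subgroup (Matrix.SpecialLinearGroup (Fin n) F)) (a φ : Fin n → F) : Prop :=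
  φ ⬝ᵥ a = 0 ∧ ∃ g ∈ H, (g : Matrix (Fin n) (Fin n) F) = 1 + vecMulVec a φ

/-- `H` contains all the transvections `1 + c a ⊗ φ`. -/
def Full (H : Subgroup (Matrix.SpecialLinearGroup (Fin n) F)) (a φ : Fin n → F) : Prop :=
  ∀ c : F, Has H a (c • φ)

variable {H : Subgroup (Matrix.SpecialLinearGroup (Fin n) F)} {a b φ ψ : Fin n → F}

theorem inv_mul_coe (g : Matrix.SpecialLinearGroup (Fin n) F) :
    ((g⁻¹ : Matrix.SpecialLinearGroup (Fin n) F) : Matrix (Fin n) (Fin n) F) *
      (g : Matrix (Fin n) (Fin n) F) = 1 := by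
  rw [← Matrix.SpecialLinearGroup.coe_mul, inv_mul_cancel, Matrix.SpecialLinearGroup.coe_one]

theorem mul_inv_coe (g : Matrix.SpecialLinearGroup (Fin n) F) :
    (g : Matrix (Fin n) (Fin n) F) *
      ((g⁻¹ : Matrix.SpecialLinearGroup (Fin n) F) : Matrix (Fin n) (Fin n) F) = 1 := by
  rw [← Matrix.SpecialLinearGroup.coe_mul, mul_inv_cancel, Matrix.SpecialLinearGroup.coe_one]

theorem Full.has (h : Full H a φ) : Has H a φ := by simpa using h 1

theorem has_zero_right (a : Fin n → F) : Has H a 0 :=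
  ⟨by simp, 1, H.one_mem, by simp [vecMulVec_zero]⟩

theorem has_zero_left (φ : Fin n → F) : Has H 0 φ :=
  ⟨by simp, 1, H.one_mem, by simp [zero_vecMulVec]⟩

theorem mul_trans (ha : φ ⬝ᵥ b = 0) :
    (1 + vecMulVec a φ) * (1 + vecMulVec b ψ) = 1 + vecMulVec a φ + vecMulVec b ψ := by
  rw [mul_add, Matrix.mul_one, add_mul, Matrix.one_mul, vecMulVec_mul_vecMulVec, ha]
  simp [vecMulVec_zero]

theorem Has.add_right (h1 : Has H a φ) (h2 : Has H a ψ) : Has H a (φ + ψ) := by
  obtain ⟨h1a, g, hg, e1⟩ := h1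
  obtain ⟨h2a, k, hk, e2⟩ := h2
  refine ⟨by rw [add_dotProduct, h1a, h2a, add_zero], g * k, H.mul_mem hg hk, ?_⟩
  rw [Matrix.SpecialLinearGroup.coe_mul, e1, e2, mul_trans h1a, vecMulVec_add, add_assoc]

theorem Has.add_left (h1 : Has H a φ) (h2 : Has H b φ) : Has H (a + b) φ := by
  obtain ⟨h1a, g, hg, e1⟩ := h1
  obtain ⟨h2a, k, hk, e2⟩ := h2
  refine ⟨by rw [dotProduct_add, h1a, h2a, add_zero], g * k, H.mul_mem hg hk, ?_⟩
  rw [Matrix.SpecialLinearGroup.coe_mul, e1, e2, mul_trans h2a, add_vecMulVec, add_assoc]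

theorem Has.conj (h : Has H a φ) {g : Matrix.SpecialLinearGroup (Fin n) F} (hg : g ∈ H) :
    Has H ((g : Matrix (Fin n) (Fin n) F) *ᵥ a)
      (φ ᵥ* ((g⁻¹ : Matrix.SpecialLinearGroup (Fin n) F) : Matrix (Fin n) (Fin n) F)) := by
  obtain ⟨ha, k, hk, e⟩ := h
  refine ⟨?_, g * k * g⁻¹, H.mul_mem (H.mul_mem hg hk) (H.inv_mem hg), ?_⟩
  · rw [dotProduct_mulVec, vecMul_vecMul, inv_mul_coe, vecMul_one, ha]
  · rw [Matrix.SpecialLinearGroup.coe_mul, Matrix.SpecialLinearGroup.coe_mul, e, mul_add,
      add_mul, Matrix.mul_one, mul_inv_coe, mul_vecMulVec, vecMulVec_mul]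

theorem smul_vecMulVec' (c : F) (a φ : Fin n → F) :
    vecMulVec (c • a) φ = vecMulVec a (c • φ) := by
  ext i j
  simp [vecMulVec_apply]
  ring

theorem has_smul_left_iff {c : F} : Has H (c • a) φ ↔ Has H a (c • φ) := by
  unfold Has
  rw [smul_dotProduct, dotProduct_smul, smul_vecMulVec']

theorem Full.smul_left (h : Full H a φ) (c : F) : Full H (c • a) φ := by
  intro d
  rw [has_smul_left_iff, smul_smul]
  exact h _

theorem Full.smul_right (h : Full H a φ) (c : F) : Full H a (c • φ) := by
  intro d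
  rw [smul_smul]
  exact h _

theorem Full.add_right (h1 : Full H a φ) (h2 : Full H a ψ) : Full H a (φ + ψ) := by
  intro c
  rw [smul_add]
  exact (h1 c).add_right (h2 c)

theorem Full.add_left (h1 : Full H a φ) (h2 : Full H b φ) : Full H (a + b) φ :=
  fun c => (h1 c).add_left (h2 c)

theorem full_zero_right (a : Fin n → F) : Full H a 0 := fun c => by
  rw [smul_zero]; exact has_zero_right a

theorem Full.conj (h : Full H a φ) {g : Matrix.SpecialLinearGroup (Fin n) F} (hg : g ∈ H) :
    Full H ((g : Matrix (Fin n) (Fin n) F) *ᵥ a)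
      (φ ᵥ* ((g⁻¹ : Matrix.SpecialLinearGroup (Fin n) F) : Matrix (Fin n) (Fin n) F)) := by
  intro c
  have := (h c).conj hg
  rwa [smul_vecMul] at this

theorem Has.neg (h : Has H a φ) : Has H a (-φ) := by
  obtain ⟨ha, g, hg, e⟩ := h
  refine ⟨by rw [neg_dotProduct, ha, neg_zero], g⁻¹, H.inv_mem hg, ?_⟩
  have h1 : (g : Matrix (Fin n) (Fin n) F) * (1 + vecMulVec a (-φ)) = 1 := by
    rw [e, mul_trans ha, vecMulVec_neg]
    abel
  calc ((g⁻¹ : Matrix.SpecialLinearGroup (Fin n) F) : Matrix (Fin n) (Fin n) F)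
      = (g⁻¹ : Matrix.SpecialLinearGroup (Fin n) F) *
        ((g : Matrix (Fin n) (Fin n) F) * (1 + vecMulVec a (-φ))) := by
          rw [h1, Matrix.mul_one]
    _ = _ := by rw [← Matrix.mul_assoc, inv_mul_coe, Matrix.one_mul]

theorem Has.neg_left (h : Has H a φ) : Has H (-a) φ := by
  have := h.neg
  rw [← neg_one_smul F a, has_smul_left_iff, neg_one_smul]
  exact this

/-- The commutator of two transvections. -/
theorem Has.comm (h1 : Has H a φ) (h2 : Has H b ψ) (h : ψ ⬝ᵥ a = 0) :
    Has H a ((φ ⬝ᵥ b) • ψ) := by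
  have h1' := h1
  obtain ⟨ha, g, hg, e⟩ := h1'
  have hc := h2.conj hg
  have e2 : (g : Matrix (Fin n) (Fin n) F) *ᵥ b = b + (φ ⬝ᵥ b) • a := by
    rw [e, add_mulVec, one_mulVec, vecMulVec_mulVec]
    simp
  have e3 : ψ ᵥ* ((g⁻¹ : Matrix.SpecialLinearGroup (Fin n) F) : Matrix (Fin n) (Fin n) F) = ψ := by
    have : ψ ᵥ* (g : Matrix (Fin n) (Fin n) F) = ψ := by
      rw [e, vecMul_add, vecMul_one, vecMul_vecMulVec, h, zero_smul, add_zero]
    calc _ = (ψ ᵥ* (g : Matrix (Fin n) (Fin n) F)) ᵥ*
        ((g⁻¹ : Matrix.SpecialLinearGroup (Fin n) F) : Matrix (Fin n) (Fin n) F) := by rw [this]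
      _ = ψ := by rw [vecMul_vecMul, mul_inv_coe, vecMul_one]
  rw [e2, e3] at hc
  have := hc.add_left h2.neg_left
  rw [show b + (φ ⬝ᵥ b) • a + -b = (φ ⬝ᵥ b) • a by abel, has_smul_left_iff] at this
  exact this

theorem Full.comm (h1 : Has H a φ) (h2 : Full H b ψ) (h : ψ ⬝ᵥ a = 0) (h' : φ ⬝ᵥ b ≠ 0) :
    Full H a ψ := by
  intro c
  have := h1.comm (h2 ((φ ⬝ᵥ b)⁻¹ * c)) (by rw [smul_dotProduct, h, smul_zero])
  rwa [smul_smul, mul_inv_cancel_left₀ h'] at this

theorem Full.comm' (h1 : Full H a φ) (h2 : Has H b ψ) (h : ψ ⬝ᵥ a = 0) (h' : φ ⬝ᵥ b ≠ 0) :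
    Full H a ψ := by
  intro c
  have := (h1 ((φ ⬝ᵥ b)⁻¹ * c)).comm h2 h
  rwa [smul_dotProduct, smul_eq_mul, mul_right_comm, inv_mul_cancel₀ h', one_mul] at this

/-- The space of functionals `φ` with `Full H a φ`. -/
def W (H : Subgroup (Matrix.SpecialLinearGroup (Fin n) F)) (a : Fin n → F) :
    Submodule F (Fin n → F) where
  carrier := {φ | Full H a φ}
  add_mem' h1 h2 := Full.add_right h1 h2
  zero_mem' := full_zero_right a
  smul_mem' c _ h := Full.smul_right h c

theorem mem_W : φ ∈ W H a ↔ Full H a φ := Iff.rfl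

theorem dot_of_mem_W (h : φ ∈ W H a) : φ ⬝ᵥ a = 0 := (Full.has h).1

/-- If all transvections lie in `H` then `H = ⊤`. -/
theorem eq_top_of_forall (h : ∀ a φ : Fin n → F, φ ⬝ᵥ a = 0 → Has H a φ) : H = ⊤ := by
  rw [eq_top_iff, ← LieClassical.SLGen.closure_transvections, Subgroup.closure_le]
  rintro A ⟨i, j, hij, c, rfl⟩
  obtain ⟨_, g, hg, e⟩ := h (Pi.single i c) (Pi.single j 1) (by simp [hij.symm])
  have : g = Matrix.SpecialLinearGroup.transvection hij c := by
    apply Subtype.ext
    rw [e]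
    change _ = (1 : Matrix (Fin n) (Fin n) F) + single i j c
    congr 1
    ext k l
    simp only [vecMulVec_apply, single_apply, Pi.single_apply]
    rcases eq_or_ne i k with rfl | h1 <;> rcases eq_or_ne j l with rfl | h2
    · simp
    · simp [h2, h2.symm]
    · simp [h1, h1.symm]
    · simp [h1, h1.symm, h2, h2.symm]
  rw [← this]
  exact hg

theorem exists_dot {x y : Fin n → F} (hx : x ≠ 0) (hy : ∀ c : F, y ≠ c • x) :
    ∃ ψ : Fin n → F, ψ ⬝ᵥ x = 0 ∧ ψ ⬝ᵥ y ≠ 0 := by
  classical
  by_contra hxy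
  push Not at hxy
  have hφx : ∀ i j, x i * y j = x j * y i := by
    intro i j
    have := hxy (Pi.single i (x j) - Pi.single j (x i)) (by
      rw [sub_dotProduct, single_dotProduct, single_dotProduct]; ring)
    rw [sub_dotProduct, single_dotProduct, single_dotProduct] at this
    linear_combination -this
  obtain ⟨i, hi⟩ : ∃ i, x i ≠ 0 := by
    by_contra hcon
    push Not at hcon
    exact hx (funext hcon)
  refine hy (y i * (x i)⁻¹) ?_
  ext j
  simp only [Pi.smul_apply, smul_eq_mul]
  field_simp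
  linear_combination hφx i j

/-- The vectors which are centres of `H`. -/
theorem full_of_point (hb : ∀ φ, φ ⬝ᵥ b = 0 → Has H b φ)
    (hspan : ∀ U : Submodule F (Fin n → F), b ∈ U →
      (∀ g ∈ H, ∀ x ∈ U, (g : Matrix (Fin n) (Fin n) F) *ᵥ x ∈ U) → U = ⊤) : H = ⊤ := by
  classical
  let D : Submodule F (Fin n → F) :=
    { carrier := {x | ∀ φ, φ ⬝ᵥ x = 0 → Has H x φ}
      zero_mem' := fun φ _ => has_zero_left φ
      smul_mem' := by
        intro c x hx φ hφ
        rw [has_smul_left_iff]
        refine hx _ ?_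
        rw [smul_dotProduct, ← dotProduct_smul, hφ]
      add_mem' := by
        intro x y hx hy φ hφ
        by_cases hxy : ∃ ψ : Fin n → F, ψ ⬝ᵥ x = 0 ∧ ψ ⬝ᵥ y ≠ 0
        · obtain ⟨ψ, h1, h2⟩ := hxy
          have h3 : Has H x ((ψ ⬝ᵥ y)⁻¹ • ψ) := hx _ (by rw [smul_dotProduct, h1, smul_zero])
          obtain ⟨_, g, hg, e⟩ := h3
          have e2 : (g : Matrix (Fin n) (Fin n) F) *ᵥ y = x + y := by
            rw [e, add_mulVec, one_mulVec, vecMulVec_mulVec]
            simp [h2, add_comm]
          have e3 : (φ ᵥ* (g : Matrix (Fin n) (Fin n) F)) ⬝ᵥ y = 0 := by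
            rw [← dotProduct_mulVec, e2, hφ]
          have := (hy _ e3).conj hg
          rw [e2, vecMul_vecMul, mul_inv_coe, vecMul_one] at this
          exact this
        · push Not at hxy
          -- `y` is a multiple of `x`
          have hφx : ∀ i j, x i * y j = x j * y i := by
            intro i j
            have := hxy (Pi.single i (x j) - Pi.single j (x i)) (by
              rw [sub_dotProduct, single_dotProduct, single_dotProduct]; ring)
            rw [sub_dotProduct, single_dotProduct, single_dotProduct] at this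
            linear_combination -this
          by_cases hx0 : x = 0
          · rw [hx0, zero_add] at hφ ⊢
            exact hy φ hφ
          · obtain ⟨i, hi⟩ : ∃ i, x i ≠ 0 := by
              by_contra hcon
              push Not at hcon
              exact hx0 (funext hcon)
            have hy' : x + y = ((x i + y i) * (x i)⁻¹) • x := by
              ext j
              simp only [Pi.add_apply, Pi.smul_apply, smul_eq_mul]
              field_simp
              linear_combination hφx i j
            rw [hy'] at hφ ⊢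
            rw [has_smul_left_iff]
            refine hx _ ?_
            rw [smul_dotProduct, ← dotProduct_smul, hφ] }
  have hD : D = ⊤ := by
    refine hspan D hb ?_
    intro g hg x hx φ hφ
    have e3 : (φ ᵥ* (g : Matrix (Fin n) (Fin n) F)) ⬝ᵥ x = 0 := by
      rw [← dotProduct_mulVec, hφ]
    have := (hx _ e3).conj hg
    rw [vecMul_vecMul, mul_inv_coe, vecMul_one] at this
    exact this
  refine eq_top_of_forall fun a φ h => ?_
  have : a ∈ D := by rw [hD]; trivial
  exact this φ h

open Module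

/-- `φ ↦ φ(x)` -/
def ev (x : Fin n → F) : (Fin n → F) →ₗ[F] F where
  toFun φ := φ ⬝ᵥ x
  map_add' φ ψ := add_dotProduct φ ψ x
  map_smul' c φ := by rw [smul_dotProduct]; rfl

theorem ev_apply (x φ : Fin n → F) : ev x φ = φ ⬝ᵥ x := rfl

theorem finrank_W_le_conj {g : Matrix.SpecialLinearGroup (Fin n) F} (hg : g ∈ H)
    (x : Fin n → F) :
    finrank F (W H x) ≤ finrank F (W H ((g : Matrix (Fin n) (Fin n) F) *ᵥ x)) := by
  let f : (Fin n → F) →ₗ[F] (Fin n → F) :=
    { toFun := fun φ =>
        φ ᵥ* ((g⁻¹ : Matrix.SpecialLinearGroup (Fin n) F) : Matrix (Fin n) (Fin n) F)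
      map_add' := fun φ ψ => add_vecMul _ _ _
      map_smul' := fun c φ => by rw [smul_vecMul]; rfl }
  have hf : Function.Injective f := by
    intro φ ψ h
    have h' : φ ᵥ* ((g⁻¹ : Matrix.SpecialLinearGroup (Fin n) F) : Matrix (Fin n) (Fin n) F) =
      ψ ᵥ* ((g⁻¹ : Matrix.SpecialLinearGroup (Fin n) F) : Matrix (Fin n) (Fin n) F) := h
    have h2 := congrArg (· ᵥ* (g : Matrix (Fin n) (Fin n) F)) h'
    simp only [vecMul_vecMul, inv_mul_coe, vecMul_one] at h2
    exact h2
  have hle : (W H x).map f ≤ W H ((g : Matrix (Fin n) (Fin n) F) *ᵥ x) := by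
    rintro _ ⟨φ, hφ, rfl⟩
    exact Full.conj hφ hg
  calc finrank F (W H x) = finrank F ((W H x).map f) :=
        (LinearEquiv.finrank_eq (Submodule.equivMapOfInjective f hf _))
    _ ≤ _ := Submodule.finrank_mono hle

theorem exists_moving {x y φ : Fin n → F} (hφ : φ ∈ W H x) (h : φ ⬝ᵥ y ≠ 0) :
    ∃ g ∈ H, (g : Matrix (Fin n) (Fin n) F) *ᵥ y = x + y := by
  obtain ⟨_, g, hg, e⟩ := hφ ((φ ⬝ᵥ y)⁻¹)
  refine ⟨g, hg, ?_⟩
  rw [e, add_mulVec, one_mulVec, vecMulVec_mulVec]
  simp [h, add_comm]

theorem W_smul {c : F} (hc : c ≠ 0) (x : Fin n → F) : W H (c • x) = W H x := by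
  apply le_antisymm
  · intro φ hφ
    have := Full.smul_left hφ c⁻¹
    rwa [smul_smul, inv_mul_cancel₀ hc, one_smul] at this
  · intro φ hφ
    exact Full.smul_left hφ c

theorem finrank_ker_ev {x : Fin n → F} (hx : x ≠ 0) : finrank F (LinearMap.ker (ev x)) + 1 = n := by
  have h1 := LinearMap.finrank_range_add_finrank_ker (ev x)
  have h2 : LinearMap.range (ev x) = ⊤ := by
    rw [LinearMap.range_eq_top]
    refine LinearMap.surjective (fun h => hx ?_)
    ext i
    have := LinearMap.congr_fun h (Pi.single i 1)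
    rw [ev_apply, single_dotProduct, one_mul] at this
    exact this
  rw [h2, finrank_top, finrank_self, finrank_fin_fun] at h1
  omega

theorem finrank_inf_ker (U : Submodule F (Fin n → F)) (x : Fin n → F) :
    finrank F U ≤ finrank F (U ⊓ LinearMap.ker (ev x) : Submodule F (Fin n → F)) + 1 := by
  by_cases hx : x = 0
  · have : LinearMap.ker (ev x) = ⊤ := by
      rw [LinearMap.ker_eq_top]
      ext i
      simp [ev_apply, hx]
    rw [this, inf_top_eq]
    omega
  · have h1 := Submodule.finrank_sup_add_finrank_inf_eq U (LinearMap.ker (ev x))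
    have h2 := finrank_ker_ev hx
    have h3 : finrank F (U ⊔ LinearMap.ker (ev x) : Submodule F (Fin n → F)) ≤ n := by
      have := Submodule.finrank_le (U ⊔ LinearMap.ker (ev x))
      rwa [finrank_fin_fun] at this
    omega

theorem finrank_ker_inf {x y : Fin n → F} (hx : x ≠ 0) (hy : ∀ c : F, y ≠ c • x) :
    finrank F (LinearMap.ker (ev x) ⊓ LinearMap.ker (ev y) : Submodule F (Fin n → F)) + 2 ≤ n := by
  have h2 := finrank_ker_ev hx
  obtain ⟨ψ, h3, h4⟩ := exists_dot hx hy
  have hlt : (LinearMap.ker (ev x) ⊓ LinearMap.ker (ev y) : Submodule F (Fin n → F)) <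
      LinearMap.ker (ev x) := by
    refine lt_of_le_of_ne inf_le_left fun h => h4 ?_
    have : ψ ∈ (LinearMap.ker (ev x) ⊓ LinearMap.ker (ev y) : Submodule F (Fin n → F)) := by
      rw [h]; exact h3
    exact this.2
  have := Submodule.finrank_lt_finrank_of_lt hlt
  omega

/-- **Lemma M.** -/
theorem full_of_rank (hn : 3 ≤ n) (hb0 : b ≠ 0) (hb : n ≤ finrank F (W H b) + 2)
    (hirr : ∀ U : Submodule F (Fin n → F),
      (∀ g ∈ H, ∀ x ∈ U, (g : Matrix (Fin n) (Fin n) F) *ᵥ x ∈ U) → U = ⊥ ∨ U = ⊤) :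
    H = ⊤ := by
  classical
  have hWker : ∀ x : Fin n → F, W H x ≤ LinearMap.ker (ev x) := fun x φ hφ => dot_of_mem_W hφ
  let D : Submodule F (Fin n → F) :=
    { carrier := {x | n ≤ finrank F (W H x) + 2}
      zero_mem' := by
        change n ≤ finrank F (W H 0) + 2
        have : W H (0 : Fin n → F) = ⊤ := by
          rw [eq_top_iff]
          intro φ _ c
          exact has_zero_left _
        rw [this, finrank_top, finrank_fin_fun]
        omega
      smul_mem' := by
        intro c x hx
        change n ≤ finrank F (W H (c • x)) + 2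
        by_cases hc : c = 0
        · have : W H (c • x) = ⊤ := by
            rw [eq_top_iff, hc, zero_smul]
            intro φ _ c
            exact has_zero_left _
          rw [this, finrank_top, finrank_fin_fun]
          omega
        · rw [W_smul hc]
          exact hx
      add_mem' := by
        intro x y hx hy
        change n ≤ finrank F (W H (x + y)) + 2
        by_cases h1 : ∃ φ ∈ W H x, φ ⬝ᵥ y ≠ 0
        · obtain ⟨φ, hφ, h⟩ := h1
          obtain ⟨g, hg, e⟩ := exists_moving hφ h
          have := finrank_W_le_conj hg y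
          rw [e] at this
          exact le_trans hy (by omega)
        by_cases h2 : ∃ φ ∈ W H y, φ ⬝ᵥ x ≠ 0
        · obtain ⟨φ, hφ, h⟩ := h2
          obtain ⟨g, hg, e⟩ := exists_moving hφ h
          have := finrank_W_le_conj hg x
          rw [e, add_comm y x] at this
          exact le_trans hx (by omega)
        push Not at h1 h2
        by_cases hx0 : x = 0
        · rw [hx0, zero_add]; exact hy
        by_cases hdep : ∃ c : F, y = c • x
        · obtain ⟨c, rfl⟩ := hdep
          have : x + c • x = (1 + c) • x := by rw [add_smul, one_smul]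
          rw [this]
          by_cases hc : 1 + c = 0
          · have : W H ((1 + c) • x) = ⊤ := by
              rw [eq_top_iff, hc, zero_smul]
              intro φ _ c
              exact has_zero_left _
            rw [this, finrank_top, finrank_fin_fun]
            omega
          · rw [W_smul hc]
            exact hx
        · push Not at hdep
          have h3 := finrank_ker_inf hx0 hdep
          have h4 : W H x ≤ LinearMap.ker (ev x) ⊓ LinearMap.ker (ev y) :=
            le_inf (hWker x) h1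
          have h5 : W H y ≤ LinearMap.ker (ev x) ⊓ LinearMap.ker (ev y) :=
            le_inf h2 (hWker y)
          have hx' : n ≤ finrank F (W H x) + 2 := hx
          have hy' : n ≤ finrank F (W H y) + 2 := hy
          have h6 := Submodule.eq_of_le_of_finrank_le h4 (by omega)
          have h7 := Submodule.eq_of_le_of_finrank_le h5 (by omega)
          have h8 : W H x ≤ W H (x + y) := by
            intro φ hφ
            have : φ ∈ W H y := by rw [h7, ← h6]; exact hφ
            exact Full.add_left hφ this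
          have := Submodule.finrank_mono h8
          omega }
  have hD : D = ⊤ := by
    rcases hirr D (fun g hg x hx => le_trans (show n ≤ finrank F (W H x) + 2 from hx)
      (Nat.add_le_add_right (finrank_W_le_conj hg x) 2)) with h | h
    · exfalso
      have : b ∈ D := hb
      rw [h, Submodule.mem_bot] at this
      exact hb0 this
    · exact h
  have hall : ∀ x : Fin n → F, n ≤ finrank F (W H x) + 2 := fun x => by
    have : x ∈ D := by rw [hD]; trivial
    exact this
  by_contra hH
  have heq : ∀ x : Fin n → F, x ≠ 0 → finrank F (W H x) + 2 = n := by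
    intro x hx
    by_contra hne
    have h1 := hall x
    have h2 := finrank_ker_ev hx
    have h3 := Submodule.eq_of_le_of_finrank_le (hWker x) (by omega)
    apply hH
    refine full_of_point (b := x) (fun φ hφ => ?_) (fun U hU hinv => ?_)
    · have : φ ∈ W H x := by rw [h3]; exact hφ
      exact Full.has this
    · rcases hirr U hinv with h | h
      · rw [h, Submodule.mem_bot] at hU
        exact absurd hU hx
      · exact h
  have key : ∀ b c : Fin n → F, b ≠ 0 → c ≠ 0 → (∀ φ ∈ W H b, φ ⬝ᵥ c = 0) → W H c = W H b := by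
    intro b c hb hc h
    by_cases h1 : ∀ φ ∈ W H c, φ ⬝ᵥ b = 0
    · by_cases hdep : ∃ d : F, c = d • b
      · obtain ⟨d, rfl⟩ := hdep
        have hd : d ≠ 0 := fun h0 => hc (by rw [h0, zero_smul])
        exact W_smul hd b
      · push Not at hdep
        have h3 := finrank_ker_inf hb hdep
        have h4 : W H b ≤ LinearMap.ker (ev b) ⊓ LinearMap.ker (ev c) := le_inf (hWker b) h
        have h5 : W H c ≤ LinearMap.ker (ev b) ⊓ LinearMap.ker (ev c) := le_inf h1 (hWker c)
        have h6 := Submodule.eq_of_le_of_finrank_le h4 (by have := heq b hb; omega)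
        have h7 := Submodule.eq_of_le_of_finrank_le h5 (by have := heq c hc; omega)
        rw [h6, h7]
    · push Not at h1
      obtain ⟨ψ, hψ, hψb⟩ := h1
      have h2 : W H b ≤ W H c := fun χ hχ => Full.comm (Full.has hψ) hχ (h χ hχ) hψb
      have h3 := Submodule.eq_of_le_of_finrank_le h2 (by
        have := heq b hb; have := heq c hc; omega)
      exact h3.symm
  have hb2 := heq b hb0
  obtain ⟨φ, hφ, hφ0⟩ : ∃ φ ∈ W H b, φ ≠ 0 := by
    have : W H b ≠ ⊥ := by
      intro h
      rw [h, finrank_bot] at hb2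
      omega
    exact (Submodule.ne_bot_iff _).1 this
  obtain ⟨i, hi⟩ : ∃ i, φ i ≠ 0 := by
    by_contra hcon
    push Not at hcon
    exact hφ0 (funext hcon)
  set c : Fin n → F := Pi.single i 1 with hc
  have hφc : φ ⬝ᵥ c ≠ 0 := by
    rw [hc, dotProduct_single, mul_one]; exact hi
  have hc0 : c ≠ 0 := by
    intro h
    rw [h, dotProduct_zero] at hφc
    exact hφc rfl
  have h2 : (W H c ⊓ LinearMap.ker (ev b) : Submodule F (Fin n → F)) ≤ W H b ⊓ W H c :=
    le_inf (fun χ hχ => Full.comm (Full.has hφ) hχ.1 hχ.2 hφc) inf_le_left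
  have h3 := Submodule.finrank_mono h2
  have h4 := finrank_inf_ker (W H c) b
  have h5 := Submodule.finrank_sup_add_finrank_inf_eq (W H b) (W H c)
  have hc2 := heq c hc0
  have h6 : (W H b ⊔ W H c : Submodule F (Fin n → F)) < ⊤ := by
    rw [lt_top_iff_ne_top]
    intro h
    rw [h, finrank_top, finrank_fin_fun] at h5
    omega
  obtain ⟨f, hf0, hf⟩ := Submodule.exists_le_ker_of_lt_top _ h6
  set d : Fin n → F := fun j => f (Pi.single j 1) with hd
  have hfd : ∀ ψ : Fin n → F, f ψ = ψ ⬝ᵥ d := by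
    intro ψ
    conv_lhs => rw [pi_eq_sum_univ' ψ]
    rw [map_sum, dotProduct]
    refine Finset.sum_congr rfl fun j _ => ?_
    rw [map_smul, smul_eq_mul, hd]
  have hd0 : d ≠ 0 := by
    intro h
    apply hf0
    ext ψ
    simp [hfd, h]
  have h7 := key b d hb0 hd0 (fun ψ hψ => by
    rw [← hfd]; exact hf (Submodule.mem_sup_left hψ))
  have h8 := key c d hc0 hd0 (fun ψ hψ => by
    rw [← hfd]; exact hf (Submodule.mem_sup_right hψ))
  have h9 : φ ∈ W H c := by rw [← h8, h7]; exact hφ
  exact hφc (dot_of_mem_W h9)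

end Cfsg.Agent.H107.SLHas
end

-- part: H107/Comp
section
/-!
The companion matrix of `(X - 1)^n` as an element of `SL_n(F)`, conjugate to the Jordan block;
the filtration of the lower triangular matrices.
-/

set_option autoImplicit false

namespace Cfsg.Agent.H107.Comp

open Matrix

variable {n : ℕ} {F : Type*} [Field F]

/-- The standard basis vectors, indexed by natural numbers (zero from `n` on). -/
def e (n : ℕ) (F : Type*) [Field F] (k : ℕ) : Fin n → F := fun i => if (i : ℕ) = k then 1 else 0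

theorem e_apply (k : ℕ) (i : Fin n) : e n F k i = if (i : ℕ) = k then 1 else 0 := rfl

theorem e_eq_single {k : ℕ} (hk : k < n) : e n F k = Pi.single ⟨k, hk⟩ 1 := by
  ext i
  rw [e_apply, Pi.single_apply]
  simp [Fin.ext_iff]

theorem e_of_le {k : ℕ} (hk : n ≤ k) : e n F k = 0 := by
  ext i
  rw [e_apply, if_neg (by omega)]
  rfl

theorem e_val (i : Fin n) : e n F i = Pi.single i 1 := e_eq_single i.2

theorem dot_e {k : ℕ} (hk : k < n) (x : Fin n → F) : x ⬝ᵥ e n F k = x ⟨k, hk⟩ := by
  rw [e_eq_single hk, dotProduct_single, mul_one]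

theorem e_dot {k : ℕ} (hk : k < n) (x : Fin n → F) : e n F k ⬝ᵥ x = x ⟨k, hk⟩ := by
  rw [dotProduct_comm, dot_e hk]

theorem mulVec_e {k : ℕ} (hk : k < n) (A : Matrix (Fin n) (Fin n) F) (i : Fin n) :
    (A *ᵥ e n F k) i = A i ⟨k, hk⟩ := by
  rw [e_eq_single hk, mulVec_single_one]
  rfl

theorem mat_ext {A B : Matrix (Fin n) (Fin n) F}
    (h : ∀ k, k < n → A *ᵥ e n F k = B *ᵥ e n F k) : A = B := by
  ext i j
  have := congrFun (h j j.2) i
  rwa [mulVec_e j.2, mulVec_e j.2] at this

/-- regular unipotent matrices -/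
def Reg (u : Matrix (Fin n) (Fin n) F) : Prop := IsNilpotent (u - 1) ∧ (u - 1) ^ (n - 1) ≠ 0

/-- the nilpotent Jordan block -/
def N (n : ℕ) (F : Type*) [Field F] : Matrix (Fin n) (Fin n) F :=
  Matrix.of fun i j => if (i : ℕ) = (j : ℕ) + 1 then 1 else 0

theorem N_mulVec_e (k : ℕ) : N n F *ᵥ e n F k = e n F (k + 1) := by
  by_cases hk : k < n
  · ext i
    rw [mulVec_e hk]
    rfl
  · rw [e_of_le (by omega), e_of_le (by omega), mulVec_zero]

theorem N_pow_mulVec_e (m k : ℕ) : (N n F ^ m) *ᵥ e n F k = e n F (k + m) := by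
  induction m generalizing k with
  | zero => simp
  | succ m ih => rw [pow_succ, ← mulVec_mulVec, N_mulVec_e, ih]; congr 1; omega

theorem N_pow : N n F ^ n = 0 :=
  mat_ext fun k _ => by rw [N_pow_mulVec_e, e_of_le (by omega), zero_mulVec]

theorem reg_one_add_N (hn : 0 < n) : Reg (1 + N n F) := by
  unfold Reg
  rw [add_sub_cancel_left]
  refine ⟨⟨n, N_pow⟩, fun h => ?_⟩
  have := congrArg (· *ᵥ e n F 0) h
  simp only [N_pow_mulVec_e, zero_mulVec] at this
  have h2 := congrFun this ⟨n - 1, by omega⟩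
  rw [e_apply, if_pos (by simp)] at h2
  exact one_ne_zero h2

/-- the filtration of lower triangular matrices -/
def Low (k : ℕ) (A : Matrix (Fin n) (Fin n) F) : Prop :=
  ∀ i j : Fin n, (i : ℕ) < (j : ℕ) + k → A i j = 0

theorem Low.mono {k l : ℕ} (h : k ≤ l) {A : Matrix (Fin n) (Fin n) F} (hA : Low l A) : Low k A :=
  fun i j hij => hA i j (by omega)

theorem Low.add {k : ℕ} {A B : Matrix (Fin n) (Fin n) F} (hA : Low k A) (hB : Low k B) :
    Low k (A + B) := fun i j hij => by
  rw [Matrix.add_apply, hA i j hij, hB i j hij, add_zero]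

theorem Low.sub {k : ℕ} {A B : Matrix (Fin n) (Fin n) F} (hA : Low k A) (hB : Low k B) :
    Low k (A - B) := fun i j hij => by
  rw [Matrix.sub_apply, hA i j hij, hB i j hij, sub_zero]

theorem Low.neg {k : ℕ} {A : Matrix (Fin n) (Fin n) F} (hA : Low k A) :
    Low k (-A) := fun i j hij => by
  rw [Matrix.neg_apply, hA i j hij, neg_zero]

theorem Low.mul {k l : ℕ} {A B : Matrix (Fin n) (Fin n) F} (hA : Low k A) (hB : Low l B) :
    Low (k + l) (A * B) := fun i j hij => by
  rw [Matrix.mul_apply]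
  refine Finset.sum_eq_zero fun m _ => ?_
  by_cases h : (i : ℕ) < (m : ℕ) + k
  · rw [hA i m h, zero_mul]
  · rw [hB m j (by omega), mul_zero]

theorem low_zero (k : ℕ) : Low k (0 : Matrix (Fin n) (Fin n) F) := fun _ _ _ => rfl

theorem low_one : Low 0 (1 : Matrix (Fin n) (Fin n) F) := fun i j hij => by
  rw [Matrix.one_apply_ne]
  intro h
  rw [h] at hij
  omega

theorem Low.pow {k : ℕ} {A : Matrix (Fin n) (Fin n) F} (hA : Low k A) (m : ℕ) :
    Low (m * k) (A ^ m) := by
  induction m with
  | zero => rw [zero_mul, pow_zero]; exact low_one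
  | succ m ih => rw [pow_succ, Nat.succ_mul]; exact ih.mul hA

theorem Low.eq_zero {k : ℕ} (hk : n ≤ k) {A : Matrix (Fin n) (Fin n) F} (hA : Low k A) : A = 0 := by
  ext i j
  exact hA i j (by omega)

theorem det_low {A : Matrix (Fin n) (Fin n) F} (hA : Low 0 A) (h1 : ∀ i, A i i = 1) :
    A.det = 1 := by
  rw [det_of_isLowerTriangular A (fun i j hij => hA i j ?_)]
  · simp [h1]
  · have : i < j := hij
    exact this

theorem det_up {A : Matrix (Fin n) (Fin n) F} (hA : ∀ i j : Fin n, j < i → A i j = 0)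
    (h1 : ∀ i, A i i = 1) : A.det = 1 := by
  rw [det_of_isUpperTriangular (M := A) (fun i j hij => hA i j hij)]
  simp [h1]

theorem low_N : Low 1 (N n F) := fun i j hij => by
  change (if (i : ℕ) = (j : ℕ) + 1 then (1 : F) else 0) = 0
  rw [if_neg (by omega)]

/-- the Jordan block in `SL_n(F)` -/
def J (n : ℕ) (F : Type*) [Field F] : Matrix.SpecialLinearGroup (Fin n) F :=
  ⟨1 + N n F, det_low (low_one.add (low_N.mono (by omega))) fun i => by
    rw [Matrix.add_apply, Matrix.one_apply_eq, low_N i i (by omega), add_zero]⟩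

theorem J_coe : (J n F : Matrix (Fin n) (Fin n) F) = 1 + N n F := rfl

theorem J_mulVec_e (k : ℕ) :
    (J n F : Matrix (Fin n) (Fin n) F) *ᵥ e n F k = e n F k + e n F (k + 1) := by
  rw [J_coe, add_mulVec, one_mulVec, N_mulVec_e]

/-- the matrix with columns `A^k v` -/
def cyc (A : Matrix (Fin n) (Fin n) F) (v : Fin n → F) : Matrix (Fin n) (Fin n) F :=
  Matrix.of fun i k => ((A ^ (k : ℕ)) *ᵥ v) i

theorem cyc_mulVec_e (A : Matrix (Fin n) (Fin n) F) (v : Fin n → F) {k : ℕ} (hk : k < n) :
    cyc A v *ᵥ e n F k = (A ^ k) *ᵥ v := by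
  ext i
  rw [mulVec_e hk]
  rfl

/-- A regular unipotent element with a cyclic basis of determinant one is `SL_n`-conjugate to
the Jordan block. -/
theorem exists_conj_J {u : Matrix.SpecialLinearGroup (Fin n) F} {v : Fin n → F}
    (hu : ((u : Matrix (Fin n) (Fin n) F) - 1) ^ n = 0)
    (hd : (cyc ((u : Matrix (Fin n) (Fin n) F) - 1) v).det = 1) :
    ∃ g : Matrix.SpecialLinearGroup (Fin n) F, u = g * J n F * g⁻¹ := by
  obtain ⟨P, hP⟩ : ∃ P : Matrix.SpecialLinearGroup (Fin n) F,
    (P : Matrix (Fin n) (Fin n) F) = cyc ((u : Matrix (Fin n) (Fin n) F) - 1) v := ⟨⟨_, hd⟩, rfl⟩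
  refine ⟨P, ?_⟩
  rw [eq_mul_inv_iff_mul_eq]
  apply Subtype.ext
  rw [Matrix.SpecialLinearGroup.coe_mul, Matrix.SpecialLinearGroup.coe_mul]
  refine mat_ext fun k hk => ?_
  set A := (u : Matrix (Fin n) (Fin n) F) - 1 with hA
  have hu' : (u : Matrix (Fin n) (Fin n) F) = 1 + A := by rw [hA]; abel
  rw [hP, ← mulVec_mulVec, ← mulVec_mulVec, J_mulVec_e, mulVec_add, cyc_mulVec_e _ _ hk, hu',
    add_mulVec, one_mulVec, mulVec_mulVec, ← pow_succ']
  congr 1
  by_cases h : k + 1 < n
  · rw [cyc_mulVec_e _ _ h]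
  · rw [e_of_le (by omega), mulVec_zero, show k + 1 = n by omega, hu, zero_mulVec]

/-- All lower unitriangular matrices with ones below the diagonal are conjugate to `J`. -/
theorem exists_conj_J_of_low {u : Matrix.SpecialLinearGroup (Fin n) F}
    (hu : Low 1 ((u : Matrix (Fin n) (Fin n) F) - 1))
    (h1 : ∀ i j : Fin n, (i : ℕ) = (j : ℕ) + 1 → (u : Matrix (Fin n) (Fin n) F) i j = 1) :
    ∃ g : Matrix.SpecialLinearGroup (Fin n) F, u = g * J n F * g⁻¹ := by
  rcases Nat.eq_zero_or_pos n with rfl | hn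
  · exact ⟨1, Subsingleton.elim _ _⟩
  set A := (u : Matrix (Fin n) (Fin n) F) - 1 with hA
  have hAn : A ^ n = 0 := (hu.pow n).eq_zero (by omega)
  refine exists_conj_J (v := e n F 0) hAn ?_
  have key : ∀ k : ℕ, k < n → (∀ i : Fin n, (i : ℕ) < k → ((A ^ k) *ᵥ e n F 0) i = 0) ∧
      (∀ i : Fin n, (i : ℕ) = k → ((A ^ k) *ᵥ e n F 0) i = 1) := by
    intro k
    induction k with
    | zero =>
      intro _
      refine ⟨fun i hi => absurd hi (by omega), fun i hi => ?_⟩
      rw [pow_zero, one_mulVec, e_apply, if_pos hi]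
    | succ k ih =>
      intro hk
      obtain ⟨ih1, ih2⟩ := ih (by omega)
      rw [pow_succ', ← mulVec_mulVec]
      constructor
      · intro i hi
        rw [mulVec, dotProduct]
        refine Finset.sum_eq_zero fun j _ => ?_
        by_cases hj : (j : ℕ) < k
        · rw [ih1 j hj, mul_zero]
        · rw [hu i j (by omega), zero_mul]
      · intro i hi
        rw [mulVec, dotProduct, Finset.sum_eq_single ⟨k, by omega⟩]
        · rw [ih2 _ rfl, mul_one]
          have h2 := h1 i ⟨k, by omega⟩ hi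
          rw [← h2, hA, Matrix.sub_apply, Matrix.one_apply_ne, sub_zero]
          intro h
          rw [h] at hi
          simp at hi
        · intro j _ hj
          by_cases hj' : (j : ℕ) < k
          · rw [ih1 j hj', mul_zero]
          · rw [hu i j (by
              have : (j : ℕ) ≠ k := fun h => hj (Fin.ext h)
              omega), zero_mul]
        · intro h
          exact absurd (Finset.mem_univ _) h
  refine det_low (fun i j hij => ?_) (fun i => ?_)
  · exact (key j j.2).1 i (by omega)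
  · exact (key i i.2).2 i rfl

/-- The companion matrix of `(X-1)^n`, up to the choice of a conjugate. -/
theorem exists_comp (n : ℕ) (F : Type*) [Field F] :
    ∃ w b : Matrix.SpecialLinearGroup (Fin n) F, w = b * J n F * b⁻¹ ∧
      ∀ k, k + 1 < n → (w : Matrix (Fin n) (Fin n) F) *ᵥ e n F k = e n F (k + 1) := by
  rcases Nat.eq_zero_or_pos n with rfl | hn
  · exact ⟨1, 1, Subsingleton.elim _ _, fun k hk => absurd hk (by omega)⟩
  set A : Matrix (Fin n) (Fin n) F := (J n F : Matrix (Fin n) (Fin n) F) with hA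
  have key : ∀ k : ℕ, k < n → (∀ i : Fin n, k < (i : ℕ) → ((A ^ k) *ᵥ e n F 0) i = 0) ∧
      (∀ i : Fin n, (i : ℕ) = k → ((A ^ k) *ᵥ e n F 0) i = 1) := by
    intro k
    induction k with
    | zero =>
      intro _
      refine ⟨fun i hi => ?_, fun i hi => ?_⟩
      · rw [pow_zero, one_mulVec, e_apply, if_neg (by omega)]
      · rw [pow_zero, one_mulVec, e_apply, if_pos hi]
    | succ k ih =>
      intro hk
      obtain ⟨ih1, ih2⟩ := ih (by omega)
      rw [pow_succ', ← mulVec_mulVec, hA, J_coe, add_mulVec, one_mulVec, ← J_coe, ← hA]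
      have hN : ∀ (x : Fin n → F) (i : Fin n) (j : Fin n), (i : ℕ) = (j : ℕ) + 1 →
          (N n F *ᵥ x) i = x j := by
        intro x i j hij
        rw [mulVec, dotProduct, Finset.sum_eq_single j]
        · change (if (i : ℕ) = (j : ℕ) + 1 then (1 : F) else 0) * x j = x j
          rw [if_pos hij, one_mul]
        · intro l _ hl
          change (if (i : ℕ) = (l : ℕ) + 1 then (1 : F) else 0) * x l = 0
          rw [if_neg, zero_mul]
          intro h
          exact hl (Fin.ext (by omega))
        · intro h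
          exact absurd (Finset.mem_univ _) h
      constructor
      · intro i hi
        rw [Pi.add_apply, ih1 i (by omega), zero_add,
          hN _ i ⟨(i : ℕ) - 1, by omega⟩ (by simp; omega)]
        exact ih1 _ (by simp; omega)
      · intro i hi
        rw [Pi.add_apply, ih1 i (by omega), zero_add,
          hN _ i ⟨(i : ℕ) - 1, by omega⟩ (by simp; omega)]
        exact ih2 _ (by simp; omega)
  have hdet : (cyc A (e n F 0)).det = 1 := by
    refine det_up (fun i j hij => ?_) (fun i => ?_)
    · exact (key j j.2).1 i (by simpa using hij)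
    · exact (key i i.2).2 i rfl
  set B : Matrix.SpecialLinearGroup (Fin n) F := ⟨cyc A (e n F 0), hdet⟩ with hB
  have hBc : (B : Matrix (Fin n) (Fin n) F) = cyc A (e n F 0) := rfl
  refine ⟨B⁻¹ * J n F * B, B⁻¹, by rw [inv_inv], fun k hk => ?_⟩
  rw [Matrix.SpecialLinearGroup.coe_mul, Matrix.SpecialLinearGroup.coe_mul, ← mulVec_mulVec,
    ← mulVec_mulVec, hBc, cyc_mulVec_e _ _ (by omega), ← hA, mulVec_mulVec _ A (A ^ k),
    ← pow_succ', ← cyc_mulVec_e _ _ hk, ← hBc, mulVec_mulVec, SLHas.inv_mul_coe, one_mulVec]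

theorem Reg.conj {u : Matrix.SpecialLinearGroup (Fin n) F} (hu : Reg (u : Matrix (Fin n) (Fin n) F))
    (g : Matrix.SpecialLinearGroup (Fin n) F) :
    Reg ((g * u * g⁻¹ : Matrix.SpecialLinearGroup (Fin n) F) : Matrix (Fin n) (Fin n) F) := by
  have h1 : ((g * u * g⁻¹ : Matrix.SpecialLinearGroup (Fin n) F) : Matrix (Fin n) (Fin n) F) - 1 =
      g * ((u : Matrix (Fin n) (Fin n) F) - 1) *
        ((g⁻¹ : Matrix.SpecialLinearGroup (Fin n) F) : Matrix (Fin n) (Fin n) F) := by
    rw [Matrix.SpecialLinearGroup.coe_mul, Matrix.SpecialLinearGroup.coe_mul, Matrix.mul_sub,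
      Matrix.sub_mul, Matrix.mul_one, SLHas.mul_inv_coe]
  have h2 : ∀ (A : Matrix (Fin n) (Fin n) F) (m : ℕ), (g * A *
        ((g⁻¹ : Matrix.SpecialLinearGroup (Fin n) F) : Matrix (Fin n) (Fin n) F)) ^ m =
        g * A ^ m *
        ((g⁻¹ : Matrix.SpecialLinearGroup (Fin n) F) : Matrix (Fin n) (Fin n) F) := by
    intro A m
    induction m with
    | zero => rw [pow_zero, pow_zero, Matrix.mul_one, SLHas.mul_inv_coe]
    | succ m ih =>
      rw [pow_succ, ih, pow_succ]
      simp only [Matrix.mul_assoc]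
      rw [← Matrix.mul_assoc _ (g : Matrix (Fin n) (Fin n) F), SLHas.inv_mul_coe, Matrix.one_mul]
  obtain ⟨⟨m, hm⟩, hne⟩ := hu
  unfold Reg
  rw [h1]
  refine ⟨⟨m, ?_⟩, ?_⟩
  · rw [h2, hm, Matrix.mul_zero, Matrix.zero_mul]
  · rw [h2]
    intro h
    apply hne
    have h3 := congrArg (fun A => ((g⁻¹ : Matrix.SpecialLinearGroup (Fin n) F) :
      Matrix (Fin n) (Fin n) F) * A * (g : Matrix (Fin n) (Fin n) F)) h
    simp only [Matrix.mul_zero, Matrix.zero_mul] at h3
    rw [← h3]
    simp only [Matrix.mul_assoc]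
    rw [SLHas.inv_mul_coe, Matrix.mul_one, ← Matrix.mul_assoc, SLHas.inv_mul_coe, Matrix.one_mul]

end Cfsg.Agent.H107.Comp
end

-- part: H107/Corner
section
/-!
Over a field of prime order, a companion matrix of `(X-1)^n` and a corner transvection generate
`SL_n`.
-/

set_option autoImplicit false

namespace Cfsg.Agent.H107.Corner

open Matrix SLHas Cfsg.Agent.H107.Comp

variable {n : ℕ} {F : Type*} [Field F]
variable {H : Subgroup (Matrix.SpecialLinearGroup (Fin n) F)} {a b φ ψ : Fin n → F}

theorem full_of_has [Fintype F] (hp : (Fintype.card F).Prime) {τ : F} (hτ : τ ≠ 0)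
    (h : Has H a (τ • φ)) : Full H a φ := by
  let S : AddSubgroup F :=
    { carrier := {c | Has H a (c • φ)}
      add_mem' := fun {x y} hx hy => by
        change Has H a ((x + y) • φ)
        rw [add_smul]; exact Has.add_right hx hy
      zero_mem' := by
        change Has H a ((0 : F) • φ)
        rw [zero_smul]; exact has_zero_right a
      neg_mem' := fun {x} hx => by
        change Has H a ((-x) • φ)
        rw [neg_smul]; exact Has.neg hx }
  have : Fact (Nat.card F).Prime := ⟨by rw [Nat.card_eq_fintype_card]; exact hp⟩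
  rcases AddSubgroup.eq_bot_or_eq_top_of_prime_card S with h1 | h1
  · exfalso
    have : τ ∈ S := h
    rw [h1, AddSubgroup.mem_bot] at this
    exact hτ this
  · intro c
    have : c ∈ S := by rw [h1]; trivial
    exact this

/-- the shift property -/
def Shift (w : Matrix.SpecialLinearGroup (Fin n) F) : Prop :=
  ∀ k, k + 1 < n → (w : Matrix (Fin n) (Fin n) F) *ᵥ e n F k = e n F (k + 1)

variable {w : Matrix.SpecialLinearGroup (Fin n) F}

theorem Shift.vecMul (hw : Shift w) (x : Fin n → F) {k : ℕ} (hk : k + 1 < n) :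
    (x ᵥ* (w : Matrix (Fin n) (Fin n) F)) ⟨k, by omega⟩ = x ⟨k + 1, hk⟩ := by
  rw [← dot_e (show k < n by omega) (x ᵥ* (w : Matrix (Fin n) (Fin n) F)), ← dotProduct_mulVec,
    hw k hk, dot_e hk]

theorem Shift.pow_mulVec (hw : Shift w) (j k : ℕ) (h : k + j < n) :
    ((w : Matrix (Fin n) (Fin n) F) ^ j) *ᵥ e n F k = e n F (k + j) := by
  induction j with
  | zero => simp
  | succ j ih =>
    rw [pow_succ', ← mulVec_mulVec, ih (by omega), hw _ (by omega)]
    rfl

theorem Shift.vecMul_pow (hw : Shift w) (x : Fin n → F) (j k : ℕ) (h : k + j < n) :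
    (x ᵥ* ((w : Matrix (Fin n) (Fin n) F) ^ j)) ⟨k, by omega⟩ = x ⟨k + j, h⟩ := by
  rw [← dot_e (show k < n by omega) (x ᵥ* ((w : Matrix (Fin n) (Fin n) F) ^ j)),
    ← dotProduct_mulVec, hw.pow_mulVec j k h, dot_e h]

theorem conj_inv_pow (h : Full H a φ) (hw : w ∈ H) (j : ℕ)
    (hb : ((w : Matrix (Fin n) (Fin n) F) ^ j) *ᵥ b = a) :
    Full H b (φ ᵥ* ((w : Matrix (Fin n) (Fin n) F) ^ j)) := by
  have h1 := h.conj (H.inv_mem (H.pow_mem hw j))
  rw [inv_inv, Matrix.SpecialLinearGroup.coe_pow, ← hb, mulVec_mulVec,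
    ← Matrix.SpecialLinearGroup.coe_pow, inv_mul_coe, one_mulVec] at h1
  exact h1

theorem span_of_shift (hw : Shift w) (U : Submodule F (Fin n → F)) (h0 : e n F 0 ∈ U)
    (hU : ∀ x ∈ U, (w : Matrix (Fin n) (Fin n) F) *ᵥ x ∈ U) : U = ⊤ := by
  have h1 : ∀ k, k < n → e n F k ∈ U := by
    intro k
    induction k with
    | zero => exact fun _ => h0
    | succ k ih => intro hk; rw [← hw k hk]; exact hU _ (ih (by omega))
  rw [eq_top_iff]
  intro x _
  rw [pi_eq_sum_univ' x]
  refine Submodule.sum_mem _ fun i _ => Submodule.smul_mem _ _ ?_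
  have := h1 i i.2
  rwa [e_val] at this

/-- A companion matrix and the full lower left corner root subgroup generate `SL_n(F)`. -/
theorem top_of_corner (hn : 2 ≤ n) (hw : Shift w) (hwH : w ∈ H)
    (h : Full H (e n F (n - 1)) (e n F 0)) : H = ⊤ := by
  set ψ : ℕ → Fin n → F := fun j => e n F 0 ᵥ* ((w : Matrix (Fin n) (Fin n) F) ^ j) with hψ
  have hS : ∀ j, j ≤ n - 1 → Full H (e n F (n - 1 - j)) (ψ j) := by
    intro j hj
    refine conj_inv_pow h hwH j ?_
    rw [hw.pow_mulVec _ _ (by omega)]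
    congr 1
    omega
  have h0 : ∀ j k (hjk : k + j < n), 1 ≤ j → ψ j ⟨k, by omega⟩ = 0 := by
    intro j k hjk hj
    simp only [hψ]
    rw [hw.vecMul_pow _ _ _ hjk, e_apply, if_neg (by simp; omega)]
  have h1 : ∀ j (hj : j < n), ψ (j + 1) ⟨n - (j + 1), by omega⟩ = ψ 1 ⟨n - 1, by omega⟩ := by
    intro j hj
    have e1 : ψ (j + 1) = ψ 1 ᵥ* ((w : Matrix (Fin n) (Fin n) F) ^ j) := by
      simp only [hψ]
      rw [vecMul_vecMul, pow_add, pow_one, ← pow_succ, ← pow_succ']
    rw [e1, hw.vecMul_pow _ _ _ (show n - (j + 1) + j < n by omega)]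
    congr 1
    apply Fin.ext
    simp
    omega
  have hc : ψ 1 ⟨n - 1, by omega⟩ ≠ 0 := by
    intro h2
    have h3 : ψ 1 = 0 := by
      ext i
      by_cases hi : (i : ℕ) + 1 < n
      · exact h0 1 i hi le_rfl
      · have : i = ⟨n - 1, by omega⟩ := Fin.ext (by simp; omega)
        rw [this, h2]; rfl
    have h4 : e n F 0 = 0 := by
      calc e n F 0 = (ψ 1) ᵥ*
          ((w⁻¹ : Matrix.SpecialLinearGroup (Fin n) F) : Matrix (Fin n) (Fin n) F) := by
            simp only [hψ]
            rw [pow_one, vecMul_vecMul, mul_inv_coe, vecMul_one]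
        _ = 0 := by rw [h3, zero_vecMul]
    have h5 := congrFun h4 ⟨0, by omega⟩
    rw [e_apply, if_pos rfl] at h5
    exact one_ne_zero h5
  -- `ψ j ∈ W (e 0)`
  have hW : ∀ m, m + 1 ≤ n - 1 → Full H (e n F 0) (ψ (n - 1 - m)) := by
    intro m
    induction m with
    | zero =>
      intro _
      have := hS (n - 1) le_rfl
      rwa [Nat.sub_self] at this
    | succ m ih =>
      intro hm
      have h2 := ih (by omega)
      have h3 := hS (n - 1 - (m + 1)) (by omega)
      refine Full.comm h2.has h3 ?_ ?_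
      · rw [dot_e (by omega)]
        exact h0 _ _ (by omega) (by omega)
      · rw [dot_e (by omega)]
        have h4 := h1 (n - 1 - m - 1) (by omega)
        rw [← h4] at hc
        convert hc using 2
        · congr 1
          omega
        · apply Fin.ext
          simp
          omega
  have hall : ∀ m, m ≤ n - 1 → ∀ φ : Fin n → F, (∀ k : Fin n, (k : ℕ) < n - m → φ k = 0) →
      Full H (e n F 0) φ := by
    intro m
    induction m with
    | zero =>
      intro _ φ hφ
      have : φ = 0 := funext fun k => hφ k (by omega)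
      rw [this]
      exact full_zero_right _
    | succ m ih =>
      intro hm φ hφ
      set c := ψ (m + 1) ⟨n - (m + 1), by omega⟩ with hcdef
      have hc' : c ≠ 0 := by rw [hcdef, h1 m (by omega)]; exact hc
      set d := φ ⟨n - (m + 1), by omega⟩ with hd
      have h2 := ih (by omega) (φ - (d * c⁻¹) • ψ (m + 1)) (by
        intro k hk
        rw [Pi.sub_apply, Pi.smul_apply, smul_eq_mul]
        by_cases hk' : (k : ℕ) < n - (m + 1)
        · rw [hφ k hk', h0 (m + 1) k (by omega) (by omega), mul_zero, sub_zero]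
        · have : k = ⟨n - (m + 1), by omega⟩ := Fin.ext (by simp; omega)
          rw [this, ← hd, ← hcdef, mul_assoc, inv_mul_cancel₀ hc', mul_one, sub_self])
      have h3 := hW (n - 1 - (m + 1)) (by omega)
      rw [show n - 1 - (n - 1 - (m + 1)) = m + 1 by omega] at h3
      have h4 := h2.add_right (h3.smul_right (d * c⁻¹))
      rwa [sub_add_cancel] at h4
  refine full_of_point (b := e n F 0) (fun φ hφ => ?_) (fun U hU hinv => ?_)
  · refine (hall (n - 1) le_rfl φ fun k hk => ?_).has
    rw [dot_e (show 0 < n by omega)] at hφ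
    have : k = ⟨0, by omega⟩ := Fin.ext (by simp; omega)
    rw [this, hφ]
  · exact span_of_shift hw U hU (fun x hx => hinv w hwH x hx)

end Cfsg.Agent.H107.Corner
end

-- part: H107/RingClo
section
/-!
A subgroup of `SL_n(F)`, `n ≥ 3`, containing the elementary matrices with entry `1` and one with a
generator of the multiplicative group as entry is everything.
-/

set_option autoImplicit false

namespace Cfsg.Agent.H107.RingClo

open Matrix SLHas

variable {n : ℕ} {F : Type*} [Field F]
variable {H : Subgroup (Matrix.SpecialLinearGroup (Fin n) F)}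

/-- `x_{ij}(c) ∈ H` -/
def HasE (H : Subgroup (Matrix.SpecialLinearGroup (Fin n) F)) (i j : Fin n) (c : F) : Prop :=
  Has H (Pi.single i 1) (c • Pi.single j 1)

theorem HasE.mul {i j k : Fin n} (hik : i ≠ k) (hij : i ≠ j) {c d : F}
    (h1 : HasE H i j c) (h2 : HasE H j k d) : HasE H i k (c * d) := by
  have h3 := Has.comm h1 h2 (by
    rw [smul_dotProduct, dotProduct_single, Pi.single_eq_of_ne hik]; simp)
  rw [smul_dotProduct, dotProduct_single, Pi.single_eq_same, mul_one, smul_eq_mul, mul_one,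
    smul_smul] at h3
  exact h3

theorem HasE.add {i j : Fin n} {c d : F} (h1 : HasE H i j c) (h2 : HasE H i j d) :
    HasE H i j (c + d) := by
  unfold HasE
  rw [add_smul]
  exact Has.add_right h1 h2

theorem top_of_hasE (h : ∀ i j : Fin n, i ≠ j → ∀ c, HasE H i j c) : H = ⊤ := by
  rw [eq_top_iff, ← LieClassical.SLGen.closure_transvections, Subgroup.closure_le]
  rintro A ⟨i, j, hij, c, rfl⟩
  obtain ⟨_, g, hg, e⟩ := h i j hij c
  have : g = Matrix.SpecialLinearGroup.transvection hij c := by
    apply Subtype.ext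
    rw [e]
    change _ = (1 : Matrix (Fin n) (Fin n) F) + single i j c
    congr 1
    ext k l
    simp only [vecMulVec_apply, single_apply, Pi.single_apply, Pi.smul_apply]
    rcases eq_or_ne i k with rfl | h1 <;> rcases eq_or_ne j l with rfl | h2
    · simp
    · simp [h2, h2.symm]
    · simp [h1, h1.symm]
    · simp [h1, h1.symm, h2, h2.symm]
  rw [← this]
  exact hg

theorem exists_third (hn : 3 ≤ n) (i j : Fin n) : ∃ k : Fin n, k ≠ i ∧ k ≠ j := by
  by_contra hcon
  push Not at hcon
  have h1 : (Finset.univ : Finset (Fin n)) ⊆ {i, j} := by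
    intro k _
    rw [Finset.mem_insert, Finset.mem_singleton]
    by_cases hk : k = i
    · exact Or.inl hk
    · exact Or.inr (hcon k hk)
  have h2 := Finset.card_le_card h1
  rw [Finset.card_univ, Fintype.card_fin] at h2
  have h3 := Finset.card_le_two (a := i) (b := j)
  omega

theorem top_of_gen (hn : 3 ≤ n) (h1 : ∀ i j : Fin n, i ≠ j → HasE H i j 1) {α : F}
    (hα : ∀ x : F, x ≠ 0 → ∃ k : ℕ, x = α ^ k) {i₀ j₀ : Fin n} (hij : i₀ ≠ j₀)
    (h2 : HasE H i₀ j₀ α) : H = ⊤ := by
  have hrow : ∀ i, i ≠ j₀ → HasE H i j₀ α := by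
    intro i hi
    by_cases hi' : i = i₀
    · rw [hi']; exact h2
    · have := (h1 i i₀ hi').mul hi hi' h2
      rwa [one_mul] at this
  have hne : ∀ i j, i ≠ j₀ → i ≠ j → HasE H i j α := by
    intro i j hi hij'
    by_cases hj : j = j₀
    · rw [hj]; exact hrow i hi
    · have := (hrow i hi).mul hij' hi (h1 j₀ j (Ne.symm hj))
      rwa [mul_one] at this
  have hall : ∀ i j, i ≠ j → HasE H i j α := by
    intro i j hij'
    by_cases hi : i = j₀
    · obtain ⟨k, hk1, hk2⟩ := exists_third hn i j
      have := (h1 i k hk1.symm).mul hij' hk1.symm (hne k j (by rw [← hi]; exact hk1) hk2)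
      rwa [one_mul] at this
    · exact hne i j hi hij'
  have hpow : ∀ m : ℕ, ∀ i j, i ≠ j → HasE H i j (α ^ m) := by
    intro m
    induction m with
    | zero => intro i j hij'; rw [pow_zero]; exact h1 i j hij'
    | succ m ih =>
      intro i j hij'
      obtain ⟨k, hk1, hk2⟩ := exists_third hn i j
      rw [pow_succ]
      exact (ih i k hk1.symm).mul hij' hk1.symm (hall k j hk2)
  refine top_of_hasE fun i j hij' c => ?_
  by_cases hc : c = 0
  · rw [hc]
    unfold HasE
    rw [zero_smul]
    exact has_zero_right _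
  · obtain ⟨m, rfl⟩ := hα c hc
    exact hpow m i j hij'

end Cfsg.Agent.H107.RingClo
end

-- part: H107/Prime
section
/-!
Passing from the prime field to `F`; powers of a generator of the multiplicative group.
-/

set_option autoImplicit false

namespace Cfsg.Agent.H107.Prime

open Matrix SLHas RingClo Corner Cfsg.Agent.H107.Comp

variable {n : ℕ} {F : Type*} [Field F]

theorem hasE_iff {H : Subgroup (Matrix.SpecialLinearGroup (Fin n) F)} {i j : Fin n} (hij : i ≠ j)
    {c : F} : HasE H i j c ↔ Matrix.SpecialLinearGroup.transvection hij c ∈ H := by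
  have key : ((Matrix.SpecialLinearGroup.transvection hij c :
      Matrix.SpecialLinearGroup (Fin n) F) : Matrix (Fin n) (Fin n) F) =
      1 + vecMulVec (Pi.single i 1) (c • Pi.single j 1) := by
    change (1 : Matrix (Fin n) (Fin n) F) + single i j c = _
    congr 1
    ext k l
    simp only [vecMulVec_apply, single_apply, Pi.single_apply, Pi.smul_apply]
    rcases eq_or_ne i k with rfl | h1 <;> rcases eq_or_ne j l with rfl | h2
    · simp
    · simp [h2, h2.symm]
    · simp [h1, h1.symm]
    · simp [h1, h1.symm, h2, h2.symm]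
  constructor
  · rintro ⟨_, g, hg, e⟩
    have : g = Matrix.SpecialLinearGroup.transvection hij c := by
      apply Subtype.ext
      rw [e, key]
    rw [← this]
    exact hg
  · intro h
    refine ⟨?_, _, h, key⟩
    rw [smul_dotProduct, dotProduct_single, Pi.single_eq_of_ne hij]
    simp

theorem map_transvection {K : Type*} [Field K] (f : K →+* F) {i j : Fin n} (hij : i ≠ j) (c : K) :
    Matrix.SpecialLinearGroup.map f (Matrix.SpecialLinearGroup.transvection hij c) =
      Matrix.SpecialLinearGroup.transvection hij (f c) := by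
  apply Subtype.ext
  change ((1 : Matrix (Fin n) (Fin n) K) + single i j c).map f =
    (1 : Matrix (Fin n) (Fin n) F) + single i j (f c)
  rw [Matrix.map_add _ (map_add f), Matrix.map_one _ (map_zero f) (map_one f)]
  congr 1
  ext k l
  simp only [Matrix.map_apply, single_apply]
  split_ifs <;> simp

theorem map_J {K : Type*} [Field K] (f : K →+* F) :
    Matrix.SpecialLinearGroup.map f (J n K) = J n F := by
  apply Subtype.ext
  change ((1 : Matrix (Fin n) (Fin n) K) + N n K).map f = (1 : Matrix (Fin n) (Fin n) F) + N n F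
  rw [Matrix.map_add _ (map_add f), Matrix.map_one _ (map_zero f) (map_one f)]
  congr 1
  ext k l
  simp only [Matrix.map_apply, N, Matrix.of_apply]
  split_ifs <;> simp

theorem exists_gen (F : Type*) [Field F] [Finite F] :
    ∃ α : F, α ≠ 0 ∧ ∀ x : F, x ≠ 0 → ∃ k : ℕ, x = α ^ k := by
  obtain ⟨g, hg⟩ := IsCyclic.exists_generator (α := Fˣ)
  refine ⟨g, g.ne_zero, fun x hx => ?_⟩
  have h1 := hg (Units.mk0 x hx)
  rw [← mem_powers_iff_mem_zpowers] at h1
  obtain ⟨k, hk⟩ := h1
  refine ⟨k, ?_⟩
  have h2 := congrArg Units.val hk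
  simpa using h2.symm

/-- The image of `SL_n` of the prime field lies in `H` as soon as the companion matrix and a
corner transvection do. -/
theorem map_mem {p : ℕ} [Fact p.Prime] (f : ZMod p →+* F) (hn : 2 ≤ n)
    {H : Subgroup (Matrix.SpecialLinearGroup (Fin n) F)}
    {w : Matrix.SpecialLinearGroup (Fin n) (ZMod p)} (hw : Shift w)
    (hwH : Matrix.SpecialLinearGroup.map f w ∈ H)
    (h : Has H (e n F (n - 1)) (e n F 0)) (g : Matrix.SpecialLinearGroup (Fin n) (ZMod p)) :
    Matrix.SpecialLinearGroup.map f g ∈ H := by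
  have h1 : H.comap (Matrix.SpecialLinearGroup.map f) = ⊤ := by
    refine top_of_corner hn hw hwH ?_
    refine full_of_has (by rw [ZMod.card]; exact Fact.out) one_ne_zero ?_
    have h2 : HasE H ⟨n - 1, by omega⟩ ⟨0, by omega⟩ (1 : F) := by
      unfold HasE
      rw [one_smul, ← e_eq_single, ← e_eq_single]
      exact h
    have hne : (⟨n - 1, by omega⟩ : Fin n) ≠ ⟨0, by omega⟩ := by
      intro h; rw [Fin.mk.injEq] at h; omega
    rw [hasE_iff hne] at h2
    have h3 : HasE (H.comap (Matrix.SpecialLinearGroup.map f)) ⟨n - 1, by omega⟩ ⟨0, by omega⟩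
        (1 : ZMod p) := by
      rw [hasE_iff hne, Subgroup.mem_comap, map_transvection, map_one]
      exact h2
    unfold HasE at h3
    rw [← e_eq_single, ← e_eq_single] at h3
    exact h3
  have : g ∈ H.comap (Matrix.SpecialLinearGroup.map f) := by rw [h1]; trivial
  exact this

end Cfsg.Agent.H107.Prime
end
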