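import Mathlib
import Cfsg.Agent.ClassicalGeometry.SympBasic
import Cfsg.Agent.H107.SpTr
set_option linter.all false

/-!
Commutator identities in the symplectic group and the conjugacy of `u` and `T_a(t) u`.
-/

set_option autoImplicit false

namespace Cfsg.Agent.H107.SpConj

open Cfsg.Agent.ClassicalGeometry.SympBasic
open Cfsg.Agent.H107.SpGraph
open Cfsg.Agent.H107.SpTr

variable {n : ℕ} {F : Type*} [Field F]

local notation "⟪" u ", " v "⟫" => Cfsg.sympForm n F u v

/-- the short root element attached to two orthogonal vectors -/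
def Z (a b : Fin n ⊕ Fin n → F) (k : F) : Matrix.symplecticGroup (Fin n) F :=
  transv (a + b) k * transv a (-k) * transv b (-k)

theorem act_Z {a b : Fin n ⊕ Fin n → F} (hab : ⟪a, b⟫ = 0) (k : F) (x : Fin n ⊕ Fin n → F) :
    act (Z a b k) x = x + (k * ⟪x, a⟫) • b + (k * ⟪x, b⟫) • a := by
  have hba : ⟪b, a⟫ = 0 := eq_swap.1 hab
  rw [Z, act_mul, act_mul, act_transv, act_transv, act_transv]
  simp only [sympForm_add_left, sympForm_add_right, sympForm_smul_left, sympForm_self, hab, hba,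
    mul_zero, add_zero]
  module

theorem conj_Z (g : Matrix.symplecticGroup (Fin n) F) (a b : Fin n ⊕ Fin n → F) (k : F) :
    g * Z a b k * g⁻¹ = Z (act g a) (act g b) k := by
  rw [Z, Z, ← act_add, ← conj_transv, ← conj_transv, ← conj_transv]
  group

/-- **Conjugacy in odd characteristic.** -/
theorem exists_conj_odd (h2 : (2 : F) ≠ 0) {g : Matrix.symplecticGroup (Fin n) F}
    {a b : Fin n ⊕ Fin n → F} (ha : act g a = a) (hb : act g b = b + a) (hab : ⟪a, b⟫ = 0)
    (t : F) : ∃ h : Matrix.symplecticGroup (Fin n) F, h * g * h⁻¹ = transv a t * g := by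
  have hba : ⟪b, a⟫ = 0 := eq_swap.1 hab
  refine ⟨(Z a b (t / 2))⁻¹, ?_⟩
  have h1 : g * Z a b (t / 2) * g⁻¹ = Z a b (t / 2) * transv a t := by
    rw [conj_Z, ha, hb]
    apply ext_act
    intro x
    rw [act_Z (by rw [sympForm_add_right, hab, sympForm_self, add_zero]), act_mul, act_Z hab,
      act_transv]
    simp only [sympForm_add_left, sympForm_add_right, sympForm_smul_left, sympForm_self, hab,
      mul_zero, add_zero]
    match_scalars
    · rfl
    · field_simp
    · field_simp; ring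
  have h3 : g * Z a b (t / 2) = Z a b (t / 2) * transv a t * g := by
    rw [← h1, inv_mul_cancel_right]
  rw [inv_inv, mul_assoc, h3]
  group

/-- **Conjugacy in characteristic two.** -/
theorem exists_conj_two (h2 : (2 : F) = 0) {g : Matrix.symplecticGroup (Fin n) F}
    {a b c : Fin n ⊕ Fin n → F} (ha : act g a = a) (hb : act g b = b + a) (hc : act g c = c + b)
    (hab : ⟪a, b⟫ = 0) (hac : ⟪a, c⟫ = 0) (k : F) :
    ∃ h : Matrix.symplecticGroup (Fin n) F,
      h * g * h⁻¹ = transv a (k + ⟪b, c⟫ * k ^ 2) * g := by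
  have hba : ⟪b, a⟫ = 0 := eq_swap.1 hab
  have hca : ⟪c, a⟫ = 0 := eq_swap.1 hac
  refine ⟨(transv b k * Z a c k)⁻¹, ?_⟩
  have h1 : g * (transv b k * Z a c k) * g⁻¹ =
      (transv b k * Z a c k) * transv a (k + ⟪b, c⟫ * k ^ 2) := by
    have h0 : g * (transv b k * Z a c k) * g⁻¹ = (g * transv b k * g⁻¹) * (g * Z a c k * g⁻¹) := by
      group
    rw [h0, conj_Z, conj_transv, ha, hb, hc]
    apply ext_act
    intro x
    rw [act_mul, act_mul, act_mul, act_Z (by rw [sympForm_add_right, hab, hac, add_zero]),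
      act_Z hac, act_transv, act_transv, act_transv]
    simp only [sympForm_add_left, sympForm_add_right, sympForm_smul_left, sympForm_self, hab, hba,
      hac, hca, mul_zero, add_zero, sympForm_swap c b]
    match_scalars
    · rfl
    · ring
    · linear_combination (k * ⟪x, a⟫) * h2
    · linear_combination (k * ⟪x, b⟫ - k ^ 2 * ⟪x, a⟫ * ⟪b, c⟫) * h2
  have h3 : g * (transv b k * Z a c k) =
      (transv b k * Z a c k) * transv a (k + ⟪b, c⟫ * k ^ 2) * g := by
    rw [← h1, inv_mul_cancel_right]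
  rw [inv_inv, mul_assoc, h3]
  group

/-! ### Transitivity on orthogonal pairs -/

theorem exists_orth {a b : Fin n ⊕ Fin n → F} (ha : a ≠ 0) (hb : ∀ c : F, b ≠ c • a) :
    ∃ d, ⟪a, d⟫ = 0 ∧ ⟪b, d⟫ ≠ 0 := by
  by_contra hcon
  push Not at hcon
  obtain ⟨x, hx⟩ : ∃ x, ⟪a, x⟫ ≠ 0 := by
    by_contra h
    push Not at h
    exact ha (eq_zero_of_forall_sympForm_right h)
  refine hb (⟪b, x⟫ / ⟪a, x⟫) (eq_of_forall_sympForm_right fun w => ?_)
  have h1 := hcon (w - (⟪a, w⟫ / ⟪a, x⟫) • x) (by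
    rw [sympForm_sub_right, sympForm_smul_right]
    field_simp
    ring)
  rw [sympForm_sub_right, sympForm_smul_right] at h1
  rw [sympForm_smul_left]
  field_simp at h1 ⊢
  linear_combination h1

theorem exists_act_fix {a b b' : Fin n ⊕ Fin n → F} (ha : a ≠ 0) (hab : ⟪a, b⟫ = 0)
    (hab' : ⟪a, b'⟫ = 0) (hb : ∀ c : F, b ≠ c • a) (hb' : ∀ c : F, b' ≠ c • a) :
    ∃ g : Matrix.symplecticGroup (Fin n) F, act g a = a ∧ act g b = b' := by
  have key : ∀ x y : Fin n ⊕ Fin n → F, ⟪a, x⟫ = 0 → ⟪a, y⟫ = 0 → ⟪x, y⟫ ≠ 0 →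
      ∃ g : Matrix.symplecticGroup (Fin n) F, act g a = a ∧ act g x = y := by
    intro x y hx hy hxy
    refine ⟨transv (y - x) (⟪x, y⟫)⁻¹, ?_, ?_⟩
    · rw [act_transv, sympForm_sub_right, hx, hy, sub_zero, mul_zero, zero_smul, add_zero]
    · rw [act_transv, sympForm_sub_right, sympForm_self, sub_zero, inv_mul_cancel₀ hxy, one_smul,
        add_sub_cancel]
  by_cases hbb : ⟪b, b'⟫ = 0
  · obtain ⟨d, hd, h1, h2⟩ : ∃ d, ⟪a, d⟫ = 0 ∧ ⟪b, d⟫ ≠ 0 ∧ ⟪b', d⟫ ≠ 0 := by
      obtain ⟨d1, hd1, h1⟩ := exists_orth ha hb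
      obtain ⟨d2, hd2, h2⟩ := exists_orth ha hb'
      by_cases h3 : ⟪b', d1⟫ = 0
      · by_cases h4 : ⟪b, d2⟫ = 0
        · refine ⟨d1 + d2, ?_, ?_, ?_⟩
          · rw [sympForm_add_right, hd1, hd2, add_zero]
          · rwa [sympForm_add_right, h4, add_zero]
          · rwa [sympForm_add_right, h3, zero_add]
        · exact ⟨d2, hd2, h4, h2⟩
      · exact ⟨d1, hd1, h1, h3⟩
    obtain ⟨g1, hg1, hg1'⟩ := key b d hab hd h1
    obtain ⟨g2, hg2, hg2'⟩ := key d b' hd hab' (ne_swap.1 h2)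
    exact ⟨g2 * g1, by rw [act_mul, hg1, hg2], by rw [act_mul, hg1', hg2']⟩
  · exact key b b' hab hab' hbb

/-- The symplectic group is transitive on nonzero vectors. -/
theorem exists_act_eq {a a' : Fin n ⊕ Fin n → F} (ha : a ≠ 0) (ha' : a' ≠ 0) :
    ∃ g : Matrix.symplecticGroup (Fin n) F, act g a = a' := by
  obtain ⟨A, -, hA⟩ := exists_transvGroup_mulVec_eq ha ha'
  exact ⟨A, hA⟩

/-- The symplectic group is transitive on pairs of independent orthogonal vectors. -/
theorem exists_act_pair {a b a' b' : Fin n ⊕ Fin n → F} (ha : a ≠ 0) (hab : ⟪a, b⟫ = 0)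
    (hb : ∀ c : F, b ≠ c • a) (ha' : a' ≠ 0) (hab' : ⟪a', b'⟫ = 0) (hb' : ∀ c : F, b' ≠ c • a') :
    ∃ g : Matrix.symplecticGroup (Fin n) F, act g a = a' ∧ act g b = b' := by
  obtain ⟨g1, hg1⟩ := exists_act_eq ha ha'
  obtain ⟨g2, hg2, hg2'⟩ := exists_act_fix ha' (b := act g1 b) (b' := b')
    (by rw [← hg1, form_act, hab]) hab' (by
      intro c h
      rw [← hg1, ← act_smul] at h
      exact hb c (act_inj g1 h)) hb'
  exact ⟨g2 * g1, by rw [act_mul, hg1, hg2], by rw [act_mul, hg2']⟩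

end Cfsg.Agent.H107.SpConj
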